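import Groth.Agent.RelDualLib.Field
import Groth.Agent.SecDivLib.Family
import Groth.Agent.RelQRegLib.Cartier
import Groth.Agent.RpushLib.Comp
import Groth.Agent.TildeDerLib.Push
import Groth.Agent.CubeConsLib.IsoCls
import Groth.Agent.PicPnLib.Rel

/-!
# The bundle of the diagonal of a family of curves
-/

set_option autoImplicit false
set_option linter.style.haveILetI false
set_option linter.unusedSectionVars false
set_option maxRecDepth 8000
universe u

open CategoryTheory CategoryTheory.Limits AlgebraicGeometry TopologicalSpace Opposite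
open AmpleLib (GenAt GenOn res shT)
open KFlatLib (pb)

noncomputable section

namespace RelDualLib

variable {C S : Scheme.{u}}

/-- A section of a family of smooth curves is an effective Cartier divisor. -/
theorem isEffCartier_section (f : C ⟶ S) [IsProper f] [Smooth f] [GeometricallyConnected f]
    (hdim : ∀ s : S, topologicalKrullDim ↥(f.fiber s) = 1) (x : S ⟶ C) (hx : x ≫ f = 𝟙 S) :
    BlowUp.IsEffCartierIdeal x.ker := by
  haveI : IsClosedImmersion x := by
    haveI : IsClosedImmersion (x ≫ f) := by rw [hx]; infer_instance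
    exact IsClosedImmersion.of_comp x f
  have e : x.ker.subschemeι ≫ f = inv x.toImage := by
    refine (cancel_epi x.toImage).1 ?_
    rw [← Category.assoc, show x.toImage ≫ x.ker.subschemeι = x from x.toImage_imageι, hx, IsIso.hom_inv_id]
  haveI : Flat (x.ker.subschemeι ≫ f) := by rw [e]; infer_instance
  haveI : LocallyOfFinitePresentation (x.ker.subschemeι ≫ f) := by rw [e]; infer_instance
  refine RelQRegLib.isEffCartier_of_fibres f x.ker fun s => ?_
  let k : Type u := S.residueField s
  letI : (f.fiber s).Over (Spec (CommRingCat.of k)) := ⟨f.fiberToSpecResidueField s⟩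
  haveI : IsProper ((f.fiber s) ↘ Spec (CommRingCat.of k)) := MorphismProperty.pullback_snd f _ inferInstance
  haveI : Smooth ((f.fiber s) ↘ Spec (CommRingCat.of k)) := MorphismProperty.pullback_snd f _ inferInstance
  haveI : GeometricallyConnected ((f.fiber s) ↘ Spec (CommRingCat.of k)) :=
    MorphismProperty.pullback_snd f _ inferInstance
  haveI := FibVALib.geometricallyIntegral_of_geometricallyConnected ((f.fiber s) ↘ Spec (CommRingCat.of k))
  haveI : IsIntegral (f.fiber s) :=
    GeometricallyIntegral.isIntegral_of_subsingleton ((f.fiber s) ↘ Spec (CommRingCat.of k))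
  rw [SecDivLib.comap_ker_of_isPullback (SecDivLib.isPullback_fibrePt f x hx s)]
  have hxs := SecDivLib.fibrePt_toSpec f x hx s
  have hP : IsClosed ({SecDivLib.fibrePt f x hx s (IsLocalRing.closedPoint k)} : Set (f.fiber s)) :=
    GenusZeroLib.isClosed_rational (k := k) (SecDivLib.fibrePt f x hx s) hxs _
  haveI : IsDiscreteValuationRing ((f.fiber s).presheaf.stalk (SecDivLib.fibrePt f x hx s (IsLocalRing.closedPoint k))) :=
    HurwitzLib.dvr_stalk_closed (k := k) (hdim s) hP
  obtain ⟨I, ⟨eI⟩, hI, -⟩ := GenusZeroLib.exists_idealMod_iso (k := k) hP (hdim s)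
  refine IntMultLib.isEffCartier_of_isInvertible _ (HilbPolyLib.isInvertible_of_iso ?_ hI)
  exact eI ≪≫ eqToIso (by rw [SecDivLib.ker_rational (k := k) (SecDivLib.fibrePt f x hx s) hxs])

/-- A section cutting out an effective Cartier divisor is regular. -/
theorem mono_of_zeroScheme {X : Scheme.{u}} {L : X.Modules} (hL : PicF.IsInvertible L) {I : X.IdealSheafData}
    (hI : BlowUp.IsEffCartierIdeal I) (σ : Coh.structureModule X ⟶ L) (hσ : PicF2.zeroScheme L σ = I) : Mono σ := by
  refine GrModLib6.mono_of_app_injective σ fun V => (injective_iff_map_eq_zero _).2 fun r hr => ?_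
  refine GrModLib6.eq_zero_of_locally r fun x hx => ?_
  have hI' := IntMultLib.isInvertible_idealMod I hI
  obtain ⟨U, t, hxU, ht⟩ := TwistLib.exists_genOn hI' x
  obtain ⟨U', g, hxU', hg⟩ := TwistLib.exists_genOn hL x
  obtain ⟨W, hW, hxW, hWU⟩ := exists_isAffineOpen_mem_and_subset (U := V ⊓ (U ⊓ U')) (x := x) ⟨hx, hxU, hxU'⟩
  have hWV : W ≤ V := fun y hy => (hWU hy).1
  have hW₁ : W ≤ U := fun y hy => (hWU hy).2.1
  have hW₂ : W ≤ U' := fun y hy => (hWU hy).2.2
  have htW := ht.res hW₁
  have hgW := hg.res hW₂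
  let tW := res (ClSub.idealMod I) hW₁ t
  let a : Γ(X, W) := (ClSub.idealModι I).app W tW
  have hIW : I.ideal ⟨W, hW⟩ = Ideal.span {a} := by
    refine le_antisymm (fun z hz => ?_) (Ideal.span_le.2 (Set.singleton_subset_iff.2 ?_))
    · obtain ⟨z', hz'⟩ := IntMultLib.exists_section I ⟨W, hW⟩ hz
      obtain ⟨c, hc⟩ := (htW W le_rfl).2 z'
      simp only [AmpleLib.res_refl] at hc
      refine Ideal.mem_span_singleton'.2 ⟨c, ?_⟩
      rw [← hz', ← hc]
      exact (IntMultLib.idealModι_smul I W c tW).symm
    · exact (IntMultLib.toSubscheme_app_eq_zero_iff I ⟨W, hW⟩ a).mp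
        (ConcreteCategory.congr_hom (congrArg (fun ψ : ClSub.idealMod I ⟶ ClSub.quotMod I => ψ.app W)
          (kernel.condition (ClSub.toSubscheme I))) _)
  obtain ⟨c, hc⟩ := (hgW W le_rfl).2 (MeroLib.secOn σ W)
  simp only [AmpleLib.res_refl] at hc
  have hspan := MeroLib.zeroScheme_ideal_of_genOn hL σ (W := ⟨W, hW⟩) hgW hc
  rw [hσ, hIW] at hspan
  obtain ⟨d, hd⟩ := Ideal.mem_span_singleton'.1 (hspan.le (Ideal.mem_span_singleton_self a))
  let rW : Γ(X, W) := X.presheaf.map (homOfLE hWV).op r
  have h0 : σ.app W rW = 0 := by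
    refine (QCohLib.app_map σ (homOfLE hWV) r).trans ?_
    rw [hr, map_zero]
  rw [AmpleFinGenLib.app_eq_smul_secOn, ← hc, smul_smul] at h0
  have hrc : rW * c = 0 := (hgW W le_rfl).1 (by simp only [AmpleLib.res_refl, zero_smul]; exact h0)
  have hra : rW * a = 0 := by rw [← hd, mul_left_comm, hrc, mul_zero]
  have hrt : rW • tW = 0 := by
    haveI : Mono (ClSub.idealModι I) := (CurvLib.idealSeq_shortExact I).mono_f
    refine QCohLib.app_injective_of_mono (ClSub.idealModι I) W ?_
    rw [map_zero]
    exact (IntMultLib.idealModι_smul I W rW tW).trans hra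
  refine ⟨W, hWV, hxW, (htW W le_rfl).1 (a₁ := rW) (a₂ := 0) ?_⟩
  simp only [AmpleLib.res_refl]
  exact hrt.trans (zero_smul _ tW).symm

/-- Higher direct images of a module pushed forward along a section vanish. -/
theorem isZero_rpush_section {X : Scheme.{u}} {q : X ⟶ S} (i : S ⟶ X) [IsClosedImmersion i] (hi : i ≫ q = 𝟙 S)
    [QuasiCompact q] [QuasiSeparated q] (N : S.Modules) [Coh.IsQCoh N] :
    IsZero ((Coh.Rpush q 1).obj ((Scheme.Modules.pushforward i).obj N)) := by
  haveI : IsAffineHom (i ≫ q) := by rw [hi]; infer_instance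
  obtain ⟨e⟩ := RpushLib.nonempty_rpush_push_iso i q N 1
  exact (TildeDerLib.isZero_Rpush_affine (i ≫ q) N 1 one_pos).of_iso e

/-- The dual of an invertible module is its inverse. -/
theorem isInverseOf_dual {X : Scheme.{u}} {J : X.Modules} (hJ : PicF.IsInvertible J) :
    ClSub.IsInverseOf (MiscFlat6.dual J) J := by
  obtain ⟨ed⟩ := MiscFlat6.nonempty_dualIso hJ
  exact ⟨KFlatLib.tensSwap J (MiscFlat6.dual J) ≪≫ ed⟩

variable (f : C ⟶ S) [IsProper f] [Smooth f] [GeometricallyConnected f]
  (hdim : ∀ s : S, topologicalKrullDim ↥(f.fiber s) = 1)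

include hdim in
theorem hdim_snd (z : C) : topologicalKrullDim ↥((pullback.snd f f).fiber z) = 1 :=
  (FibDimLib.topologicalKrullDim_fiber_baseChange (IsPullback.of_hasPullback f f) z).trans (hdim _)

include hdim in
/-- The diagonal has a bundle with a regular section cutting it out. -/
theorem exists_diag_bundle :
    ∃ (L : (pullback f f).Modules) (σ : Coh.structureModule (pullback f f) ⟶ L), PicF.IsInvertible L ∧ Mono σ ∧
      PicF2.zeroScheme L σ = (pullback.diagonal f).ker ∧
        ClSub.IsInverseOf L (ClSub.idealMod (pullback.diagonal f).ker) := by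
  haveI : IsProper (pullback.snd f f) := MorphismProperty.pullback_snd f f inferInstance
  haveI : Smooth (pullback.snd f f) := MorphismProperty.pullback_snd f f inferInstance
  haveI : GeometricallyConnected (pullback.snd f f) := MorphismProperty.pullback_snd f f inferInstance
  have hI := isEffCartier_section (pullback.snd f f) (hdim_snd f hdim) (pullback.diagonal f)
    (pullback.diagonal_snd f)
  have hJ := IntMultLib.isInvertible_idealMod _ hI
  have hL := MiscFlat6.dual_isInvertible hJ
  have hLJ : ClSub.IsInverseOf (MiscFlat6.dual (ClSub.idealMod (pullback.diagonal f).ker))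
      (ClSub.idealMod (pullback.diagonal f).ker) :=
    isInverseOf_dual hJ
  obtain ⟨σ, hσ⟩ := SecDivLib.exists_secHom hL hI hLJ
  exact ⟨_, σ, hL, mono_of_zeroScheme hL hI σ hσ, hσ, hLJ⟩

/-- The normal bundle of the diagonal is inverse to the differentials. -/
theorem nonempty_normal_tensor_omega {L : (pullback f f).Modules}
    (hLJ : ClSub.IsInverseOf L (ClSub.idealMod (pullback.diagonal f).ker)) :
    Nonempty (CohB1.tensorMod (pb (pullback.diagonal f) L) (Omega.sheaf f) ≅ Coh.structureModule C) :=
  ⟨(PicPnLib.pullTens (pullback.diagonal f) L (ClSub.idealMod (pullback.diagonal f).ker)).symm ≪≫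
    (Scheme.Modules.pullback (pullback.diagonal f)).mapIso hLJ.some ≪≫ KFlatLib.pullUnitIso _⟩

end RelDualLib

end
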