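import Groth.Agent.SecDivLib.Zero
import Groth.Agent.GrModLib6.Rel
import Groth.Agent.HilbPolyLib.Twist
import Groth.Agent.CurveBCLib.Twist
import Groth.Agent.HopfIneqLib.Sections

/-!
# Multiplication by a section cutting out a closed subscheme: the short exact sequence
-/

set_option autoImplicit false
set_option linter.style.haveILetI false
set_option linter.unusedSectionVars false
set_option backward.isDefEq.respectTransparency false
universe u

open CategoryTheory CategoryTheory.Limits AlgebraicGeometry TopologicalSpace Opposite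
open AmpleLib (GenAt GenOn res shT)
open KFlatLib (pb puSec puSecLE)

noncomputable section

namespace RelDualLib

variable {X Z : Scheme.{u}} (i : Z ⟶ X)

/-- `τ` is, near every point, multiplication by a regular equation of `i` between generators. -/
def HasChart {M M' : X.Modules} (τ : M ⟶ M') : Prop :=
  ∀ (x : X) (V : X.Opens), x ∈ V → ∃ (W : X.affineOpens) (g : Γ(M, W.1)) (g' : Γ(M', W.1)) (a : Γ(X, W.1)),
    x ∈ W.1 ∧ W.1 ≤ V ∧ GenOn M g ∧ GenOn M' g' ∧ τ.app W.1 g = a • g' ∧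
      a ∈ nonZeroDivisors Γ(X, W.1) ∧ i.ker.ideal W = Ideal.span {a}

variable {i}

theorem HasChart.mono {M M' : X.Modules} {τ : M ⟶ M'} (h : HasChart i τ) : Mono τ := by
  refine GrModLib6.mono_of_app_injective τ fun V => (injective_iff_map_eq_zero _).2 fun s hs => ?_
  refine GrModLib6.eq_zero_of_locally s fun x hx => ?_
  obtain ⟨W, g, g', a, hxW, hWV, hg, hg', hτ, ha, -⟩ := h x V hx
  refine ⟨W.1, hWV, hxW, ?_⟩
  obtain ⟨r, hr⟩ := (hg W.1 le_rfl).2 (res M hWV s)
  simp only [AmpleLib.res_refl] at hr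
  have h0 : τ.app W.1 (res M hWV s) = 0 := by
    refine (QCohLib.app_map τ (homOfLE hWV) s).trans ?_
    rw [hs, map_zero]
  rw [← hr, QCohLib.app_smul, hτ, smul_smul] at h0
  have hra : r * a = 0 := (hg' W.1 le_rfl).1 (by
    simp only [AmpleLib.res_refl, zero_smul]; exact h0)
  have : r = 0 := mem_nonZeroDivisors_iff_right.mp ha r hra
  exact hr.symm.trans (by rw [this, zero_smul])

variable (i) in
/-- The unit `M ⟶ i_* i^* M`. -/
abbrev uni (M : X.Modules) : M ⟶ (Scheme.Modules.pushforward i).obj (pb i M) :=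
  (Scheme.Modules.pullbackPushforwardAdjunction i).unit.app M

variable [IsClosedImmersion i]

theorem uni_eq_zero_iff {M' : X.Modules} {W : X.affineOpens} {g' : Γ(M', W.1)} (hg' : GenOn M' g') (r : Γ(X, W.1)) :
    (uni i M').app W.1 (r • g') = 0 ↔ r ∈ i.ker.ideal W := by
  rw [Scheme.Hom.ker_apply, RingHom.mem_ker]
  show puSec i (r • g') = 0 ↔ _
  rw [KFlatLib.puSec_smul]
  have hgen := CubeLib.genOn_puSecLE i hg' (le_refl (i ⁻¹ᵁ W.1))
  have e : puSecLE i M' (le_refl (i ⁻¹ᵁ W.1)) g' = puSec i g' := by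
    rw [KFlatLib.puSecLE_apply]; exact AmpleLib.res_refl _ _
  rw [e] at hgen
  refine ⟨fun h => (hgen _ le_rfl).1 ?_, fun h => by rw [h, zero_smul]⟩
  simp only [AmpleLib.res_refl, zero_smul]
  exact h

theorem uni_surjective {M' : X.Modules} {W : X.affineOpens} {g' : Γ(M', W.1)} (hg' : GenOn M' g')
    (t : Γ((Scheme.Modules.pushforward i).obj (pb i M'), W.1)) : ∃ m, (uni i M').app W.1 m = t := by
  have hgen := CubeLib.genOn_puSecLE i hg' (le_refl (i ⁻¹ᵁ W.1))
  obtain ⟨c, hc⟩ := (hgen _ le_rfl).2 (show Γ(pb i M', i ⁻¹ᵁ W.1) from t)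
  simp only [AmpleLib.res_refl] at hc
  obtain ⟨r, hr⟩ := Scheme.Hom.app_surjective i W.1 W.2 c
  refine ⟨r • g', ?_⟩
  show puSec i (r • g') = _
  rw [KFlatLib.puSec_smul, hr, ← hc]
  congr 1
  rw [KFlatLib.puSecLE_apply]; exact (AmpleLib.res_refl _ _).symm

theorem HasChart.comp_uni {M M' : X.Modules} {τ : M ⟶ M'} (h : HasChart i τ) : τ ≫ uni i M' = 0 := by
  refine Scheme.Modules.hom_ext _ _ fun V => ConcreteCategory.hom_ext _ _ fun s => ?_
  refine GrModLib6.eq_zero_of_locally _ fun x hx => ?_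
  obtain ⟨W, g, g', a, hxW, hWV, hg, hg', hτ, -, hker⟩ := h x V hx
  refine ⟨W.1, hWV, hxW, ?_⟩
  refine (QCohLib.app_map (τ ≫ uni i M') (homOfLE hWV) s).symm.trans ?_
  obtain ⟨r, hr⟩ := (hg W.1 le_rfl).2 (res M hWV s)
  simp only [AmpleLib.res_refl] at hr
  show (uni i M').app W.1 (τ.app W.1 (res M hWV s)) = 0
  rw [← hr, QCohLib.app_smul, hτ, smul_smul, uni_eq_zero_iff hg', hker]
  exact Ideal.mem_span_singleton'.2 ⟨r, rfl⟩

/-- The short exact sequence `0 ⟶ M ⟶ M' ⟶ i_* i^* M' ⟶ 0`. -/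
theorem HasChart.shortExact {M M' : X.Modules} {τ : M ⟶ M'} (h : HasChart i τ) :
    (ShortComplex.mk τ (uni i M') h.comp_uni).ShortExact where
  mono_f := h.mono
  exact := GrModLib6.exact_of_locally_lift τ (uni i M') h.comp_uni fun V t ht x hx => by
    obtain ⟨W, g, g', a, hxW, hWV, -, hg', hτ, -, hker⟩ := h x V hx
    obtain ⟨r, hr⟩ := (hg' W.1 le_rfl).2 (res M' hWV t)
    simp only [AmpleLib.res_refl] at hr
    have h0 : (uni i M').app W.1 (res M' hWV t) = 0 := by
      refine (QCohLib.app_map (uni i M') (homOfLE hWV) t).trans ?_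
      rw [ht, map_zero]
    rw [← hr, uni_eq_zero_iff hg', hker] at h0
    obtain ⟨c, hc⟩ := Ideal.mem_span_singleton'.1 h0
    refine ⟨W.1, hWV, hxW, c • g, ?_⟩
    rw [QCohLib.app_smul, hτ, smul_smul, hc]
    exact hr
  epi_g := by
    refine QCohLib.epi_of_surjective_on_affines _ fun V t x hx => ?_
    obtain ⟨W, g, g', a, hxW, hWV, -, hg', -, -, -⟩ := h x V hx
    obtain ⟨m, hm⟩ := uni_surjective hg'
      (((Scheme.Modules.pushforward i).obj (pb i M')).presheaf.map (homOfLE hWV).op t)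
    exact ⟨W.1, hWV, hxW, m, hm⟩

omit [IsClosedImmersion i] in
/-- A section cutting out `i` gives charts. -/
theorem hasChart_section {L : X.Modules} (hL : PicF.IsInvertible L) (σ : Coh.structureModule X ⟶ L) [Mono σ]
    (hσ : PicF2.zeroScheme L σ = i.ker) : HasChart i σ := by
  intro x V hxV
  obtain ⟨W₀, g₀, c₀, hxW₀, hg₀, hc₀, hnz, -⟩ := AmpleFinGenLib.exists_chart hL σ x
  obtain ⟨W, hW, hxW, hWV⟩ := exists_isAffineOpen_mem_and_subset (U := W₀.1 ⊓ V) (x := x) ⟨hxW₀, hxV⟩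
  have h₀ : W ≤ W₀.1 := fun y hy => (hWV hy).1
  have hgW := hg₀.res h₀
  let c : Γ(X, W) := X.presheaf.map (homOfLE h₀).op c₀
  have hc : c • res L h₀ g₀ = MeroLib.secOn σ W := by
    rw [← MeroLib.secOn_res σ h₀, ← hc₀, AmpleLib.res_smul]
  refine ⟨⟨W, hW⟩, (show Γ(Coh.structureModule X, W) from (1 : Γ(X, W))), res L h₀ g₀, c, hxW,
    fun y hy => (hWV hy).2, AmpleLib.one_genOn W, hgW, hc.symm, ?_, ?_⟩
  · refine mem_nonZeroDivisors_iff_right.mpr fun r hr => ?_
    refine (QCohLib.app_injective_of_mono σ W : _) (Eq.trans ?_ (map_zero (σ.app W).hom).symm)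
    rw [AmpleFinGenLib.app_eq_smul_secOn, ← hc, smul_smul, hr, zero_smul]
  · rw [← hσ]
    exact MeroLib.zeroScheme_ideal_of_genOn hL σ (W := ⟨W, hW⟩) hgW hc

omit [IsClosedImmersion i] in
/-- Multiplication by a section cutting out `i`, on an invertible module. -/
theorem exists_twist {L P : X.Modules} (hL : PicF.IsInvertible L) (hP : PicF.IsInvertible P)
    (σ : Coh.structureModule X ⟶ L) [Mono σ] (hσ : PicF2.zeroScheme L σ = i.ker) :
    ∃ τ : P ⟶ CohB1.tensorMod P L, HasChart i τ := by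
  obtain ⟨φ, hφ⟩ := GrTildeLib.exists_tens_hom (M := Coh.structureModule X) (N := P) (P := CohB1.tensorMod P L)
    (fun V r m => (show Γ(X, V) from r) • shT m (MeroLib.secOn σ V))
    (fun V r r' m => add_smul _ _ _)
    (fun V r m m' => by rw [HopfIneqLib.shT_add_left, smul_add])
    (fun V c r m => mul_smul (show Γ(X, V) from c) _ _)
    (fun V c r m => by
      have h1 := AmpleLib.shT_smul c 1 m (MeroLib.secOn σ V)
      rw [one_smul, mul_one] at h1
      rw [h1, smul_smul, smul_smul, mul_comm])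
    (fun V W h r m => by
      refine (AmpleLib.res_smul _ h _ _).trans ?_
      rw [AmpleLib.shT_res, MeroLib.secOn_res]
      rfl)
  refine ⟨(HilbPolyLib.unitLeft P).inv ≫ φ, fun x V hxV => ?_⟩
  obtain ⟨U₀, g₀, hxU₀, hg₀⟩ := TwistLib.exists_genOn hP x
  obtain ⟨W, g, g', a, hxW, hWV, hg, hg', hτ, ha, hker⟩ := hasChart_section hL σ hσ x (U₀ ⊓ V) ⟨hxU₀, hxV⟩
  have h₀ : W.1 ≤ U₀ := fun y hy => (hWV hy).1
  have hp := hg₀.res h₀
  let one : Γ(Coh.structureModule X, W.1) := show Γ(X, W.1) from 1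
  obtain ⟨u, hu⟩ := ((AmpleThLib.shT_genOn (AmpleLib.one_genOn W.1) hp) W.1 le_rfl).2
    ((HilbPolyLib.unitLeft P).inv.app W.1 (res P h₀ g₀))
  simp only [AmpleLib.res_refl] at hu
  have hgen : GenOn (CohB1.tensorMod (Coh.structureModule X) P) (u • shT one (res P h₀ g₀)) := by
    rw [hu]; exact MeroLib.genOn_iso (HilbPolyLib.unitLeft P).inv hp
  have huU : IsUnit u := CubeLib.isUnit_of_genOn (AmpleThLib.shT_genOn (AmpleLib.one_genOn W.1) hp) hgen
  obtain ⟨u', hu'⟩ := (AmpleLib.one_genOn W.1 W.1 le_rfl).2 g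
  simp only [AmpleLib.res_refl] at hu'
  refine ⟨W, res P h₀ g₀, u • shT (res P h₀ g₀) g', ?_⟩
  have hone : σ.app W.1 g = u' • MeroLib.secOn σ W.1 := by
    rw [← hu', QCohLib.app_smul]; rfl
  have hu'U : IsUnit u' := by
    refine CubeLib.isUnit_of_genOn (AmpleLib.one_genOn W.1) ?_
    rw [hu']; exact hg
  obtain ⟨v, hv⟩ := hu'U
  refine ⟨↑v⁻¹ * a, hxW, fun y hy => (hWV hy).2, hp,
    CubeLib.genOn_unit_smul (AmpleThLib.shT_genOn hp hg') huU, ?_,
    mul_mem (IsUnit.mem_nonZeroDivisors (Units.isUnit _)) ha, ?_⟩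
  · show φ.app W.1 ((HilbPolyLib.unitLeft P).inv.app W.1 (res P h₀ g₀)) = _
    have hs : MeroLib.secOn σ W.1 = (↑v⁻¹ * a) • g' := by
      rw [mul_smul, ← hτ, hone, ← hv, smul_smul, Units.inv_mul, one_smul]
    rw [← hu, QCohLib.app_smul, hφ, hs]
    show u • (1 : Γ(X, W.1)) • shT (res P h₀ g₀) ((↑v⁻¹ * a) • g') = _
    rw [one_smul, CurveBCLib.shT_smul, smul_smul, smul_smul, mul_comm]
  · rw [hker]; exact (Ideal.span_singleton_mul_left_unit (Units.isUnit _) a).symm

end RelDualLib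

end
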