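import Groth.Agent.RelDualLib.TraceIso
import Groth.Agent.CurveBCLib.Twist
import Groth.Agent.SecDivLib.Abel

/-!
# The differentials are the only bundle of degree `2g - 2` with trivial `R¹f_*`
-/

set_option autoImplicit false
set_option linter.style.haveILetI false
set_option linter.unusedSectionVars false
set_option maxRecDepth 8000
universe u

open CategoryTheory CategoryTheory.Limits AlgebraicGeometry TopologicalSpace Opposite
open KFlatLib (pb)

noncomputable section

namespace RelDualLib

attribute [local instance] CurveDualLib.fibreOver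

variable {C S : Scheme.{u}} (f : C ⟶ S) [IsProper f] [Smooth f] [GeometricallyConnected f]
  (hdim : ∀ s : S, topologicalKrullDim ↥(f.fiber s) = 1)

include hdim in
/-- Degree and genus on the fibres of the square. -/
theorem deg_pulled {F : C.Modules} (hF : PicF.IsInvertible F) (c : C) :
    letI : ((pullback.snd f f).fiber c).Over (Spec (CommRingCat.of (C.residueField c))) :=
      ⟨(pullback.snd f f).fiberToSpecResidueField c⟩
    Curv2.deg (C.residueField c) ((pullback.snd f f).fiber c)
        (pb ((pullback.snd f f).fiberι c) (pb (pullback.fst f f) F)) 1 =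
      Curv2.deg (S.residueField (f c)) (f.fiber (f c)) (pb (f.fiberι (f c)) F) 1 ∧
    Curv2.genus (C.residueField c) ((pullback.snd f f).fiber c) =
      Curv2.genus (S.residueField (f c)) (f.fiber (f c)) := by
  let q := pullback.snd f f
  haveI : IsProper q := MorphismProperty.pullback_snd f f inferInstance
  let k : Type u := S.residueField (f c)
  let K : Type u := C.residueField c
  letI : Algebra k K := (f.residueFieldMap c).hom.toAlgebra
  let Z := f.fiber (f c)
  let Z' := q.fiber c
  letI : Z'.Over (Spec (CommRingCat.of K)) := ⟨q.fiberToSpecResidueField c⟩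
  haveI : IsProper (Z ↘ Spec (CommRingCat.of k)) := (CurveDualLib.fibre_data f (f c)).1
  have hc := IsPullback.of_hasPullback f f
  let m : Z' ⟶ Z := pullback.map _ _ _ _ (pullback.fst f f) (Spec.map (f.residueFieldMap c)) f hc.w.symm (by simp)
  have hm : m ≫ f.fiberι (f c) = q.fiberι c ≫ pullback.fst f f := pullback.lift_fst _ _ _
  have hpb : IsPullback m (Z' ↘ Spec (CommRingCat.of K)) (Z ↘ Spec (CommRingCat.of k))
      (Spec.map (CommRingCat.ofHom (algebraMap k K))) :=
    isPullback_fiberToSpecResidueField_of_isPullback hc c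
  refine ⟨?_, ?_⟩
  · rw [← CurveBCLib.deg_sq hpb (AmpleDevLib.isInvertible_pb (f.fiberι (f c)) hF)]
    exact CurvLib.deg_congr (k := K) ((Scheme.Modules.pullbackComp (q.fiberι c) (pullback.fst f f)).app F ≪≫
      (Scheme.Modules.pullbackCongr hm.symm).app F ≪≫
        ((Scheme.Modules.pullbackComp m (f.fiberι (f c))).app F).symm) 1
  · have h := SecDivLib.fiberRank_structure_bc hc c 1
    rw [genus_fibre f (f c)] at h
    refine Eq.trans ?_ h
    exact ((CurvLib.hIso (k := K) (KFlatLib.pullUnitIso (q.fiberι c)) 1).finrank_eq).symm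

include hdim in
/-- Twisting by the diagonal kills the fibrewise first cohomology in degree `2g - 2`. -/
theorem subsingleton_fiberH_twist_deg {L : (pullback f f).Modules} (hL : PicF.IsInvertible L)
    (σ : Coh.structureModule (pullback f f) ⟶ L) (hσ : PicF2.zeroScheme L σ = (pullback.diagonal f).ker)
    {F : C.Modules} (hF : PicF.IsInvertible F)
    (hdeg : ∀ s : S, 2 * (Curv2.genus (S.residueField s) (f.fiber s) : ℤ) - 2 ≤
      Curv2.deg (S.residueField s) (f.fiber s) (pb (f.fiberι s) F) 1) (c : C) :
    Subsingleton (CohIII.fiberH (pullback.snd f f) (CohB1.tensorMod (pb (pullback.fst f f) F) L) c 1) := by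
  let q := pullback.snd f f
  haveI : IsProper q := MorphismProperty.pullback_snd f f inferInstance
  haveI : Smooth q := MorphismProperty.pullback_snd f f inferInstance
  haveI : GeometricallyConnected q := MorphismProperty.pullback_snd f f inferInstance
  let k : Type u := C.residueField c
  let Z := q.fiber c
  letI : Z.Over (Spec (CommRingCat.of k)) := ⟨q.fiberToSpecResidueField c⟩
  haveI : IsProper (Z ↘ Spec (CommRingCat.of k)) := MorphismProperty.pullback_snd q _ inferInstance
  haveI : Smooth (Z ↘ Spec (CommRingCat.of k)) := MorphismProperty.pullback_snd q _ inferInstance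
  haveI : GeometricallyConnected (Z ↘ Spec (CommRingCat.of k)) := MorphismProperty.pullback_snd q _ inferInstance
  have hd := hdim_snd f hdim c
  haveI := (CurveDualLib.bcData k Z hd).int
  haveI := (CurveDualLib.bcData k Z hd).gi
  let ι := q.fiberι c
  have hxs := SecDivLib.isPullback_fibrePt q (pullback.diagonal f) (pullback.diagonal_snd f) c
  have hz : PicF2.zeroScheme (pb ι L) (SecDivLib.pbSec ι σ) =
      (SecDivLib.fibrePt q (pullback.diagonal f) (pullback.diagonal_snd f) c).ker := by
    rw [SecDivLib.zeroScheme_pbSec ι hL σ, hσ]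
    exact SecDivLib.comap_ker_of_isPullback hxs
  obtain ⟨hd1, -⟩ := point_bundle_facts (k := k) hd
    (SecDivLib.fibrePt q (pullback.diagonal f) (pullback.diagonal_snd f) c)
    (SecDivLib.fibrePt_toSpec q (pullback.diagonal f) (pullback.diagonal_snd f) c)
    (AmpleDevLib.isInvertible_pb _ hL) (SecDivLib.pbSec ι σ) hz
  obtain ⟨hdF, hgF⟩ := deg_pulled f hdim hF c
  refine FibVALib.h1_vanish k Z hd (AmpleDevLib.isInvertible_pb _
    (HilbPolyLib.isInvertible_tensor (AmpleDevLib.isInvertible_pb _ hF) hL)) ?_
  rw [CurvLib.deg_congr (k := k) (PicPnLib.pullTens ι (pb (pullback.fst f f) F) L) 1,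
    GenusZeroLib.deg_tensor k hd (AmpleDevLib.isInvertible_pb _ (AmpleDevLib.isInvertible_pb _ hF))
      (AmpleDevLib.isInvertible_pb _ hL), hd1, hdF, hgF]
  have := hdeg (f c)
  omega

include hdim in
/-- A bundle of degree at least `2g - 2` on the fibres with trivial `R¹f_*` is the differentials. -/
theorem nonempty_iso_omega_family {F : C.Modules} (hF : PicF.IsInvertible F)
    (hdeg : ∀ s : S, 2 * (Curv2.genus (S.residueField s) (f.fiber s) : ℤ) - 2 ≤
      Curv2.deg (S.residueField s) (f.fiber s) (pb (f.fiberι s) F) 1)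
    (hR : Nonempty ((Coh.Rpush f 1).obj F ≅ Coh.structureModule S)) :
    Nonempty (F ≅ Omega.sheaf f) := by
  obtain ⟨eR⟩ := hR
  let q := pullback.snd f f
  let i := pullback.diagonal f
  let H2 := IsPullback.of_hasPullback f f
  haveI : IsProper q := MorphismProperty.pullback_snd f f inferInstance
  haveI : Smooth q := MorphismProperty.pullback_snd f f inferInstance
  have hΩ := CurveDualLib.omega_invertible_family f hdim
  obtain ⟨L, σ, hL, hm, hσ, hLJ⟩ := exists_diag_bundle f hdim
  have hi : i ≫ q = 𝟙 C := pullback.diagonal_snd f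
  let P := pb (pullback.fst f f) F
  have hP : PicF.IsInvertible P := AmpleDevLib.isInvertible_pb _ hF
  obtain ⟨τ, hch⟩ := exists_twist (i := i) hL hP σ hσ
  let PL := CohB1.tensorMod P L
  have hPL : PicF.IsInvertible PL := HilbPolyLib.isInvertible_tensor hP hL
  let D := Groth.Agent.RDerLib.derivedLES (Scheme.Modules.pushforward q)
  haveI : PreservesFiniteLimits (Scheme.Modules.pushforward q) := CohCmpLib.preservesFiniteLimits_push
  let N := pb i PL
  let M := CohB1.tensorMod F (pb i L)
  let eN : N ≅ M := PicPnLib.pullTens i P L ≪≫ HilbPolyLib.congrLeft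
    ((Scheme.Modules.pullbackComp i (pullback.fst f f)).app _ ≪≫
      (Scheme.Modules.pullbackCongr (pullback.diagonal_fst f)).app _ ≪≫ (Scheme.Modules.pullbackId C).app F) _
  let c : ((Scheme.Modules.pushforward q).rightDerived 0).obj ((Scheme.Modules.pushforward i).obj N) ≅ M :=
    (Scheme.Modules.pushforward q).rightDerivedZeroIsoSelf.app _ ≪≫ (Scheme.Modules.pushforwardComp i q).app N ≪≫
      (Scheme.Modules.pushforwardCongr hi).app N ≪≫ (Scheme.Modules.pushforwardId C).app N ≪≫ eN
  haveI := isIso_bc1 hdim H2 hF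
  let β := bc1 f H2.w F
  let d := D.δ (ShortComplex.mk τ (uni i PL) hch.comp_uni) hch.shortExact 0 1 rfl
  have hz : IsZero ((Coh.Rpush q 1).obj PL) := by
    obtain ⟨hQ, hfp, hfl⟩ := CohCmpLib.rank_one_hyps q ((CohCmpLib.invertible_iff_rank_one _).1 hPL)
    exact CohCmpLib.isZero_rpush_of_fibre hfp hfl 1 fun c =>
      subsingleton_fiberH_twist_deg f hdim hL σ hσ hF hdeg c
  haveI : Epi d := (D.exact₁ _ hch.shortExact 0 1 rfl).epi_f (hz.eq_of_tgt _ _)
  let φ : M ⟶ Coh.structureModule C :=
    c.inv ≫ d ≫ inv β ≫ (Scheme.Modules.pullback f).map eR.hom ≫ (KFlatLib.pullUnitIso f).hom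
  haveI : Epi φ := epi_comp _ _
  haveI : IsIso φ := CohCmpLib.isIso_of_epi_rank_one
    ((CohCmpLib.invertible_iff_rank_one _).1 (HilbPolyLib.isInvertible_tensor hF (AmpleDevLib.isInvertible_pb _ hL)))
    (CohCmpLib.rank_one_structureModule C) φ
  obtain ⟨e⟩ := nonempty_normal_tensor_omega f hLJ
  -- `F ≅ F ⊗ (N ⊗ Ω) ≅ (F ⊗ N) ⊗ Ω ≅ Ω`
  exact ⟨(HilbPolyLib.unitLeft F).symm ≪≫ KFlatLib.tensSwap F (Coh.structureModule C) ≪≫
    HilbPolyLib.congrRight F e.symm ≪≫ (HilbPolyLib.assocIso F (pb i L) (Omega.sheaf f)).symm ≪≫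
      HilbPolyLib.congrLeft (asIso φ) _ ≪≫ HilbPolyLib.unitLeft (Omega.sheaf f)⟩

end RelDualLib

end
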