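import Groth.Agent.RelDualLib.Bundle
import Groth.Agent.CohCmpLib.FibreRowsBC
import Groth.Agent.S16958
import Groth.Agent.S16948

/-!
# The connecting map of the diagonal and its behaviour at a point
-/

set_option autoImplicit false
set_option linter.style.haveILetI false
set_option linter.unusedSectionVars false
set_option maxRecDepth 8000
universe u

open CategoryTheory CategoryTheory.Limits AlgebraicGeometry TopologicalSpace Opposite
open KFlatLib (pb)

noncomputable section

namespace RelDualLib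

/-- Base change maps are natural in the module. -/
theorem bc_natural {X S X' S' : Scheme.{u}} {f : X ⟶ S} {g : S' ⟶ S} {f' : X' ⟶ S'} {g' : X' ⟶ X}
    {w : g' ≫ f = f' ≫ g} [HasInjectiveResolutions X.Modules] [HasInjectiveResolutions X'.Modules]
    {Δ : RDer.DerivedLES (Scheme.Modules.pushforward f)} {Δ' : RDer.DerivedLES (Scheme.Modules.pushforward f')}
    {E : CohCmp.SectCmp f Δ} {E' : CohCmp.SectCmp f' Δ'} (B : CohCmp.GenBC f g f' g' w E E') (p : ℕ)
    {F G : X.Modules} (ψ : F ⟶ G) :
    (Scheme.Modules.pullback g).map ((Coh.Rpush f p).map ψ) ≫ B.bc p G =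
      B.bc p F ≫ (Coh.Rpush f' p).map ((Scheme.Modules.pullback g').map ψ) := by
  unfold CohCmp.GenBC.bc
  rw [← Adjunction.homEquiv_naturality_left_symm, ← Adjunction.homEquiv_naturality_right_symm]
  exact congrArg _ (B.natural p ψ)

/-- A morphism killed by `G` of the first map factors through `G` of the cokernel. -/
theorem exists_desc_map {A : Type*} [Category A] [Abelian A] {B : Type*} [Category B] [Abelian B] (G : A ⥤ B)
    [G.PreservesZeroMorphisms] [PreservesFiniteColimits G] {S : ShortComplex A} (hS : S.Exact) [Epi S.g]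
    {T : B} (b : G.obj S.X₂ ⟶ T) (hb : G.map S.f ≫ b = 0) : ∃ d : G.obj S.X₃ ⟶ T, G.map S.g ≫ d = b :=
  ⟨(CokernelCofork.mapIsColimit _ hS.gIsCokernel G).desc (CokernelCofork.ofπ b hb),
    (CokernelCofork.mapIsColimit _ hS.gIsCokernel G).fac (CokernelCofork.ofπ b hb) WalkingParallelPair.one⟩

section Cmp

variable {X Y : Scheme.{u}} (f : X ⟶ Y) [HasInjectiveResolutions X.Modules]

/-- The chosen comparison data. -/
abbrev cmp : CohCmp.SectCmp f (Groth.Agent.RDerLib.derivedLES (Scheme.Modules.pushforward f)) :=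
  CohCmpLib.sectCmp _

variable {X' Y' : Scheme.{u}} {g : Y' ⟶ Y} {f' : X' ⟶ Y'} {g' : X' ⟶ X} (w : g' ≫ f = f' ≫ g)
  [HasInjectiveResolutions X'.Modules]

/-- The chosen base change maps. -/
abbrev bcm : CohCmp.GenBC f g f' g' w (cmp f) (cmp f') := CohCmpLib.genBC w (cmp f) (cmp f')

/-- The base change map in degree one. -/
abbrev bc1 (F : X.Modules) :
    (Scheme.Modules.pullback g).obj ((Coh.Rpush f 1).obj F) ⟶
      (Coh.Rpush f' 1).obj ((Scheme.Modules.pullback g').obj F) :=
  (bcm f w).bc 1 F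

end Cmp

/-- Degree one commutes with base change for invertible modules on families of curves. -/
theorem isIso_bc1 {X S X' S' : Scheme.{u}} {f : X ⟶ S} [IsProper f] [Smooth f]
    (hdim : ∀ s : S, topologicalKrullDim ↥(f.fiber s) = 1) {g : S' ⟶ S} {f' : X' ⟶ S'} {g' : X' ⟶ X}
    (H : IsPullback g' f' f g) {F : X.Modules} (hF : PicF.IsInvertible F) : IsIso (bc1 f H.w F) := by
  obtain ⟨hQ, hfp, hfl⟩ := CohCmpLib.rank_one_hyps f ((CohCmpLib.invertible_iff_rank_one _).1 hF)
  exact (Groth.Agent.S16958.result f F hfp hfl 1 (fun s => (hdim s).le) (cmp f)).2 1 le_rfl g' f' g H _ (cmp f')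
    (bcm f H.w)

variable {C S : Scheme.{u}} (f : C ⟶ S) [IsProper f] [Smooth f] [GeometricallyConnected f]
  (hdim : ∀ s : S, topologicalKrullDim ↥(f.fiber s) = 1)

/-- The section on the square, read on `p^* O`. -/
abbrev sigP {L : (pullback f f).Modules} (σ : Coh.structureModule (pullback f f) ⟶ L) :
    pb (pullback.fst f f) (Coh.structureModule C) ⟶ L :=
  (KFlatLib.pullUnitIso (pullback.fst f f)).hom ≫ σ

/-- `f^* R¹f_* O ⟶ R¹q_* L`. -/
abbrev piMap {L : (pullback f f).Modules} (σ : Coh.structureModule (pullback f f) ⟶ L) :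
    pb f ((Coh.Rpush f 1).obj (Coh.structureModule C)) ⟶ (Coh.Rpush (pullback.snd f f) 1).obj L :=
  bc1 f (IsPullback.of_hasPullback f f).w (Coh.structureModule C) ≫
    (Coh.Rpush (pullback.snd f f) 1).map (sigP f σ)

theorem HasChart.precomp {X Z : Scheme.{u}} {i : Z ⟶ X} {M M₀ M' : X.Modules} (e : M₀ ≅ M) {τ : M ⟶ M'}
    (h : HasChart i τ) : HasChart i (e.hom ≫ τ) := fun x V hx => by
  obtain ⟨W, g, g', a, hxW, hWV, hg, hg', hτ, ha, hker⟩ := h x V hx
  refine ⟨W, e.inv.app W.1 g, g', a, hxW, hWV, MeroLib.genOn_iso e.inv hg, hg', ?_, ha, hker⟩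
  show τ.app W.1 (e.hom.app W.1 (e.inv.app W.1 g)) = _
  rw [show e.hom.app W.1 (e.inv.app W.1 g) = g from congr(Scheme.Modules.Hom.app $(e.inv_hom_id) W.1 g)]
  exact hτ

include hdim in
/-- The connecting map `N ⟶ f^* R¹f_* O`, with cokernel `R¹q_* L`. -/
theorem exists_delta {L : (pullback f f).Modules} (hL : PicF.IsInvertible L)
    (σ : Coh.structureModule (pullback f f) ⟶ L) [Mono σ] (hσ : PicF2.zeroScheme L σ = (pullback.diagonal f).ker) :
    ∃ (δ : pb (pullback.diagonal f) L ⟶ pb f ((Coh.Rpush f 1).obj (Coh.structureModule C)))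
      (w : δ ≫ piMap f σ = 0), (ShortComplex.mk δ (piMap f σ) w).Exact ∧ Epi (piMap f σ) := by
  let q := pullback.snd f f
  let i := pullback.diagonal f
  let H2 := IsPullback.of_hasPullback f f
  haveI : IsProper q := MorphismProperty.pullback_snd f f inferInstance
  haveI : IsClosedImmersion (pullback.diagonal f) := inferInstance
  have hch : HasChart i (sigP f σ) := (hasChart_section hL σ hσ).precomp (KFlatLib.pullUnitIso (pullback.fst f f))
  have hS := hch.shortExact
  let D := Groth.Agent.RDerLib.derivedLES (Scheme.Modules.pushforward q)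
  let N := pb i L
  haveI : Coh.IsQCoh L := TwistLib.isQCoh_of_isInvertible hL
  haveI : Coh.IsQCoh N := KFlatLib.isQCoh_pullback _ L
  have hi : i ≫ q = 𝟙 C := pullback.diagonal_snd f
  haveI : PreservesFiniteLimits (Scheme.Modules.pushforward q) := CohCmpLib.preservesFiniteLimits_push
  let c : ((Scheme.Modules.pushforward q).rightDerived 0).obj ((Scheme.Modules.pushforward i).obj N) ≅ N :=
    (Scheme.Modules.pushforward q).rightDerivedZeroIsoSelf.app _ ≪≫ (Scheme.Modules.pushforwardComp i q).app N ≪≫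
      (Scheme.Modules.pushforwardCongr hi).app N ≪≫ (Scheme.Modules.pushforwardId C).app N
  haveI := isIso_bc1 hdim H2 (CurvLib.isInvertible_structureModule (X := C))
  let β := bc1 f H2.w (Coh.structureModule C)
  let d := D.δ (ShortComplex.mk (sigP f σ) (uni i L) hch.comp_uni) hS 0 1 rfl
  let δ : N ⟶ pb f ((Coh.Rpush f 1).obj (Coh.structureModule C)) := c.inv ≫ d ≫ inv β
  have hw : δ ≫ piMap f σ = 0 := by
    show (c.inv ≫ d ≫ inv β) ≫ β ≫ _ = 0
    simp only [Category.assoc, IsIso.inv_hom_id_assoc]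
    exact (congrArg (c.inv ≫ ·) (D.δ_comp _ hS 0 1 rfl)).trans comp_zero
  refine ⟨δ, hw, ShortComplex.exact_of_iso ?_ (D.exact₁ _ hS 0 1 rfl), ?_⟩
  · exact ShortComplex.isoMk c (asIso β).symm (Iso.refl _)
      (show c.hom ≫ δ = d ≫ inv β by show c.hom ≫ c.inv ≫ d ≫ inv β = _; rw [Iso.hom_inv_id_assoc])
      (show inv β ≫ β ≫ _ = _ ≫ 𝟙 _ by rw [IsIso.inv_hom_id_assoc, Category.comp_id])
  · have h2 := D.exact₂ _ hS 1
    haveI : Epi ((Coh.Rpush q 1).map (sigP f σ)) :=
      h2.epi_f ((isZero_rpush_section i hi N).eq_of_tgt _ _)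
    exact epi_comp β _

/-- The point of the square over a point of the curve, cutting out its section. -/
theorem key {T Z : Scheme.{u}} {L : (pullback f f).Modules} (hL : PicF.IsInvertible L)
    (σ : Coh.structureModule (pullback f f) ⟶ L)
    (hdim' : ∀ c : C, topologicalKrullDim ↥((pullback.snd f f).fiber c) = 1)
    {N : C.Modules} {δ : N ⟶ pb f ((Coh.Rpush f 1).obj (Coh.structureModule C))} {w : δ ≫ piMap f σ = 0}
    (hδ : (ShortComplex.mk δ (piMap f σ) w).Exact) [Epi (piMap f σ)]
    (x : T ⟶ C) (sb : T ⟶ S) (hx : x ≫ f = sb) {pr : Z ⟶ C} {z : Z ⟶ T} (H : IsPullback pr z f sb)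
    {j : Z ⟶ pullback f f} (h1 : IsPullback j z (pullback.snd f f) x) (hj : j ≫ pullback.fst f f = pr)
    {U : T.Modules} (b0 : pb sb ((Coh.Rpush f 1).obj (Coh.structureModule C)) ⟶ U)
    (hb0 : (Scheme.Modules.pullback x).map δ ≫
      (Scheme.Modules.pullbackComp x f).hom.app ((Coh.Rpush f 1).obj (Coh.structureModule C)) ≫
      (Scheme.Modules.pullbackCongr hx).hom.app ((Coh.Rpush f 1).obj (Coh.structureModule C)) ≫ b0 = 0) :
    ∃ b' : (Coh.Rpush z 1).obj (pb j L) ⟶ U, b0 = bc1 f H.w (Coh.structureModule C) ≫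
      (Coh.Rpush z 1).map ((Scheme.Modules.pullbackCongr hj).inv.app (Coh.structureModule C) ≫
        (Scheme.Modules.pullbackComp j (pullback.fst f f)).inv.app (Coh.structureModule C) ≫
        (Scheme.Modules.pullback j).map (sigP f σ)) ≫ b' := by
  subst hx hj
  haveI : IsProper (pullback.snd f f) := MorphismProperty.pullback_snd f f inferInstance
  haveI : Smooth (pullback.snd f f) := MorphismProperty.pullback_snd f f inferInstance
  haveI : Coh.IsQCoh (Coh.structureModule C) := QCohLib.isQCoh_unit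
  have hcg : (Scheme.Modules.pullbackCongr (rfl : x ≫ f = x ≫ f)).hom.app
      ((Coh.Rpush f 1).obj (Coh.structureModule C)) = 𝟙 _ := by simp [Scheme.Modules.pullbackCongr]
  rw [hcg, Category.id_comp] at hb0
  obtain ⟨d, hd⟩ := exists_desc_map (Scheme.Modules.pullback x) hδ
    ((Scheme.Modules.pullbackComp x f).hom.app ((Coh.Rpush f 1).obj (Coh.structureModule C)) ≫ b0) hb0
  haveI := isIso_bc1 hdim' h1 hL
  have hcomp := Groth.Agent.S16948.result j (pullback.fst f f) z (pullback.snd f f) f x f h1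
    (IsPullback.of_hasPullback f f) H.w (Coh.structureModule C) 1 (cmp f) (cmp _) (cmp z)
    (bcm f (IsPullback.of_hasPullback f f).w) (bcm (pullback.snd f f) h1.w) (bcm f H.w)
  refine ⟨inv (bc1 (pullback.snd f f) h1.w L) ≫ d, ?_⟩
  refine (cancel_epi ((Scheme.Modules.pullbackComp x f).hom.app
    ((Coh.Rpush f 1).obj (Coh.structureModule C)))).1 ?_
  refine hd.symm.trans ?_
  have e : (Scheme.Modules.pullback x).map (piMap f σ) ≫ bc1 (pullback.snd f f) h1.w L =
      (Scheme.Modules.pullbackComp x f).hom.app ((Coh.Rpush f 1).obj (Coh.structureModule C)) ≫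
        bc1 f H.w (Coh.structureModule C) ≫ (Coh.Rpush z 1).map
          ((Scheme.Modules.pullbackComp j (pullback.fst f f)).inv.app (Coh.structureModule C) ≫
            (Scheme.Modules.pullback j).map (sigP f σ)) := by
    rw [Functor.map_comp, Category.assoc, bc_natural]
    erw [reassoc_of% hcomp]
    simp only [Functor.map_comp]
    erw [← Functor.map_comp_assoc ((Coh.Rpush z 1)), Iso.hom_inv_id_app, CategoryTheory.Functor.map_id, Category.id_comp]
  have hcg2 : (Scheme.Modules.pullbackCongr (rfl : j ≫ pullback.fst f f = j ≫ pullback.fst f f)).inv.app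
      (Coh.structureModule C) = 𝟙 _ := by simp [Scheme.Modules.pullbackCongr]
  rw [hcg2, Category.id_comp]
  have e' := (IsIso.eq_comp_inv _).2 e
  rw [show (ShortComplex.mk δ (piMap f σ) w).g = piMap f σ from rfl, e']
  simp only [Category.assoc]

end RelDualLib

end
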