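import Groth.Agent.RelDualLib.Forms
import Groth.Agent.CurveDualLib.DualField
import Groth.Agent.CurveDualLib.Family
import Groth.Agent.AVIndexLib.TopSec

/-!
# Sections of the differentials over a base with free `R¹f_* O`
-/

set_option autoImplicit false
set_option linter.style.haveILetI false
set_option linter.unusedSectionVars false
set_option maxRecDepth 8000
set_option backward.isDefEq.respectTransparency false
universe u

open CategoryTheory CategoryTheory.Limits AlgebraicGeometry TopologicalSpace Opposite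
open AmpleLib (GenAt GenOn res shT)
open KFlatLib (pb puSec puSecLE)

noncomputable section

namespace RelDualLib

theorem appLE_top {X Y : Scheme.{u}} (g : X ⟶ Y) (h : (⊤ : X.Opens) ≤ g ⁻¹ᵁ ⊤) (r : Γ(Y, ⊤)) :
    (g.appLE ⊤ ⊤ h).hom r = g.appTop r := by
  show _ = g.app ⊤ r
  rw [Scheme.Hom.app_eq_appLE]
  rfl

variable {C S : Scheme.{u}} (f : C ⟶ S) [IsProper f] [Smooth f] [GeometricallyConnected f]
  (hdim : ∀ s : S, topologicalKrullDim ↥(f.fiber s) = 1)

include hdim in
theorem dim_of_square {k : Type u} [Field k] {Z : Scheme.{u}} {pr : Z ⟶ C} {z : Z ⟶ Spec (CommRingCat.of k)}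
    {sb : Spec (CommRingCat.of k) ⟶ S} (H : IsPullback pr z f sb) : topologicalKrullDim Z = 1 := by
  obtain ⟨t⟩ : Nonempty (Spec (CommRingCat.of k)) := inferInstance
  have hd : topologicalKrullDim ↥(z.fiber t) = 1 :=
    (FibDimLib.topologicalKrullDim_fiber_baseChange H t).trans (hdim _)
  have hr : Set.range (z.fiberι t) = Set.univ := by
    rw [Scheme.Hom.range_fiberι]
    exact Set.eq_univ_of_forall fun y => Subsingleton.elim (α := PrimeSpectrum k) _ _
  let ε : ↥(z.fiber t) ≃ₜ Z := (z.fiberι t).isEmbedding.toHomeomorph.trans ((Homeomorph.setCongr hr).trans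
    (Homeomorph.Set.univ Z))
  exact (IsHomeomorph.topologicalKrullDim_eq _ ε.isHomeomorph).symm.trans hd

/-- The coordinates of a free module. -/
def projF (S : Scheme.{u}) (g : ℕ) (i : Fin g) : FlatMod.freeMod S g ⟶ Coh.structureModule S :=
  Sigma.desc fun j => if j = i then 𝟙 _ else 0

theorem ι_projF (S : Scheme.{u}) (g : ℕ) (i j : Fin g) :
    Sigma.ι (fun _ : Fin g => Coh.structureModule S) j ≫ projF S g i = if j = i then 𝟙 _ else 0 := by
  simp [projF]

/-- The data of the forms. -/
structure FormData (g : ℕ) where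
  L : (pullback f f).Modules
  σ : Coh.structureModule (pullback f f) ⟶ L
  hL : PicF.IsInvertible L
  hσ : PicF2.zeroScheme L σ = (pullback.diagonal f).ker
  δ : pb (pullback.diagonal f) L ⟶ pb f ((Coh.Rpush f 1).obj (Coh.structureModule C))
  w : δ ≫ piMap f σ = 0
  exact : (ShortComplex.mk δ (piMap f σ) w).Exact
  epi : Epi (piMap f σ)
  e : CohB1.tensorMod (pb (pullback.diagonal f) L) (Omega.sheaf f) ≅ Coh.structureModule C
  hE : (Coh.Rpush f 1).obj (Coh.structureModule C) ≅ FlatMod.freeMod S g
  τ : Fin g → (Coh.structureModule C ⟶ Omega.sheaf f)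
  hτ : ∀ i, ∀ (W : C.Opens) (n : Γ(pb (pullback.diagonal f) L, W)) (ω : Γ(Omega.sheaf f, W)) (u : Γ(C, W)),
      e.inv.app W (show Γ(Coh.structureModule C, W) from (1 : Γ(C, W))) = u • shT n ω →
        MeroLib.secOn (τ i) W = (u * (show Γ(C, W) from
          (δ ≫ (Scheme.Modules.pullback f).map (hE.hom ≫ projF S g i) ≫ (KFlatLib.pullUnitIso f).hom).app W n)) • ω

include hdim in
theorem nonempty_formData {g : ℕ}
    (hE : Nonempty ((Coh.Rpush f 1).obj (Coh.structureModule C) ≅ FlatMod.freeMod S g)) :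
    Nonempty (FormData f g) := by
  obtain ⟨hE⟩ := hE
  obtain ⟨L, σ, hL, hm, hσ, hLJ⟩ := exists_diag_bundle f hdim
  obtain ⟨δ, w, hex, hepi⟩ := exists_delta f hdim hL σ hσ
  obtain ⟨e⟩ := nonempty_normal_tensor_omega f hLJ
  choose τ hτ using fun i => exists_form e
    (δ ≫ (Scheme.Modules.pullback f).map (hE.hom ≫ projF S g i) ≫ (KFlatLib.pullUnitIso f).hom)
  exact ⟨⟨L, σ, hL, hσ, δ, w, hex, hepi, e, hE, τ, hτ⟩⟩

variable {f} {g : ℕ} (D : FormData f g)

include hdim in
/-- Over an algebraically closed field the forms are independent. -/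
theorem forms_independent {K : Type u} [Field K] [IsAlgClosed K] {Z : Scheme.{u}} {pr : Z ⟶ C}
    {z : Z ⟶ Spec (CommRingCat.of K)} {sb : Spec (CommRingCat.of K) ⟶ S} (H : IsPullback pr z f sb)
    (c : Fin g → Γ(Spec (CommRingCat.of K), ⊤))
    (hc : ∑ i, z.appTop (c i) • puSecLE pr (Omega.sheaf f) (le_top : (⊤ : Z.Opens) ≤ pr ⁻¹ᵁ ⊤)
      (MeroLib.secOn (D.τ i) ⊤) = 0) : ∀ i, c i = 0 := by
  haveI : IsProper z := MorphismProperty.of_isPullback H inferInstance
  haveI : Smooth z := MorphismProperty.of_isPullback H inferInstance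
  haveI : GeometricallyConnected z := MorphismProperty.of_isPullback H inferInstance
  have hdimZ := dim_of_square f hdim H
  haveI := isIso_bc1 hdim H (CurvLib.isInvertible_structureModule (X := C))
  haveI := D.epi
  haveI : Subsingleton (Spec (CommRingCat.of K)) := inferInstanceAs (Subsingleton (PrimeSpectrum K))
  choose μ hμ using fun i => exists_mul (c i)
  let a : Fin g → ((Coh.Rpush f 1).obj (Coh.structureModule C) ⟶ Coh.structureModule S) :=
    fun i => D.hE.hom ≫ projF S g i
  let bK : pb sb ((Coh.Rpush f 1).obj (Coh.structureModule C)) ⟶ Coh.structureModule (Spec (CommRingCat.of K)) :=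
    ∑ i, (Scheme.Modules.pullback sb).map (a i) ≫ (KFlatLib.pullUnitIso sb).hom ≫ μ i
  have hΩ : PicF.IsInvertible (Omega.sheaf f) := CurveDualLib.omega_invertible_family f hdim
  have hN : PicF.IsInvertible (pb (pullback.diagonal f) D.L) := AmpleDevLib.isInvertible_pb _ D.hL
  let B : (Coh.Rpush z 1).obj (Coh.structureModule Z) ⟶ Coh.structureModule (Spec (CommRingCat.of K)) :=
    (Coh.Rpush z 1).map (KFlatLib.pullUnitIso pr).inv ≫ inv (bc1 f H.w (Coh.structureModule C)) ≫ bK
  have hB : B = 0 := by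
    refine eq_zero_of_points z hdimZ B fun y hy => ?_
    let x : Spec (CommRingCat.of K) ⟶ C := y ≫ pr
    have hx : x ≫ f = sb := by rw [Category.assoc, H.w, ← Category.assoc, hy, Category.id_comp]
    let j : Z ⟶ pullback f f := pullback.lift pr (z ≫ x) (by rw [Category.assoc, hx, H.w])
    have hj : j ≫ pullback.fst f f = pr := pullback.lift_fst _ _ _
    have hjq : j ≫ pullback.snd f f = z ≫ x := pullback.lift_snd _ _ _
    have h1 : IsPullback j z (pullback.snd f f) x := by
      refine IsPullback.of_right ?_ hjq (IsPullback.of_hasPullback f f)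
      rw [hj, hx]; exact H
    have hw : x ≫ pullback.diagonal f = y ≫ j := by
      apply pullback.hom_ext
      · rw [Category.assoc, pullback.diagonal_fst, Category.comp_id, Category.assoc, hj]
      · rw [Category.assoc, pullback.diagonal_snd, Category.comp_id, Category.assoc, hjq, ← Category.assoc, hy,
          Category.id_comp]
    have sq : IsPullback x y (pullback.diagonal f) j := by
      refine IsPullback.of_bot ?_ hw h1
      rw [pullback.diagonal_snd, hy]
      exact IsPullback.of_vert_isIso ⟨by simp⟩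
    have hsum : ∑ i, c i • puSecLE x (Omega.sheaf f) (le_top : (⊤ : (Spec (CommRingCat.of K)).Opens) ≤ x ⁻¹ᵁ ⊤)
        (MeroLib.secOn (D.τ i) ⊤) = 0 := by
      have h := congrArg (fun t => ((Scheme.Modules.pullbackComp y pr).hom.app (Omega.sheaf f)).app ⊤
        (puSecLE y (pb pr (Omega.sheaf f)) (le_top : (⊤ : (Spec (CommRingCat.of K)).Opens) ≤ y ⁻¹ᵁ ⊤) t)) hc
      simp only [map_sum, map_zero, KFlatLib.puSecLE_smul] at h
      refine Eq.trans (Finset.sum_congr rfl fun i _ => ?_) h
      rw [QCohLib.app_smul]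
      refine congr_arg₂ (· • ·) ?_ (CohCmpLib.pullbackComp_puSecLE y pr (Omega.sheaf f) _ le_top le_top).symm
      rw [appLE_top]
      exact (congr($(congrArg Scheme.Hom.appTop hy) (c i))).symm.trans (congr($(Scheme.Hom.comp_appTop y z) (c i)))
    have hb0 := combination_kills f D.e hN hΩ D.δ x sb hx a D.τ D.hτ c hsum μ hμ
    obtain ⟨b', hb'⟩ := key f D.hL D.σ (hdim_snd f hdim) D.exact x sb hx H h1 hj bK hb0
    refine ⟨pb j D.L, SecDivLib.pbSec j D.σ, b', AmpleDevLib.isInvertible_pb _ D.hL, ?_, ?_⟩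
    · rw [SecDivLib.zeroScheme_pbSec j D.hL D.σ, D.hσ]
      exact SecDivLib.comap_ker_of_isPullback sq
    · show _ ≫ inv _ ≫ bK = _
      rw [hb', IsIso.inv_hom_id_assoc, ← Functor.map_comp_assoc]
      congr 2
      have hu := unit_comp j (pullback.fst f f) pr hj
      have hu' : (Scheme.Modules.pullbackCongr hj).inv.app (Coh.structureModule C) ≫
          (Scheme.Modules.pullbackComp j (pullback.fst f f)).inv.app (Coh.structureModule C) ≫
          (Scheme.Modules.pullback j).map (KFlatLib.pullUnitIso (pullback.fst f f)).hom =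
          (KFlatLib.pullUnitIso pr).hom ≫ (KFlatLib.pullUnitIso j).inv := by
        rw [Iso.eq_comp_inv, Category.assoc, Category.assoc, ← hu]
        simp
      rw [SecDivLib.pbSec, Functor.map_comp, reassoc_of% hu', Iso.inv_hom_id_assoc]
  have hbK : bK = 0 := by
    have := congrArg (fun t => bc1 f H.w (Coh.structureModule C) ≫
      (Coh.Rpush z 1).map (KFlatLib.pullUnitIso pr).hom ≫ t) hB
    simpa [B, ← Functor.map_comp_assoc] using this
  intro j
  have h := congrArg (fun t => (KFlatLib.pullUnitIso sb).inv ≫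
    (Scheme.Modules.pullback sb).map (Sigma.ι (fun _ : Fin g => Coh.structureModule S) j ≫ D.hE.inv) ≫ t) hbK
  simp only [bK, a, Preadditive.comp_sum, comp_zero, ← Functor.map_comp_assoc, Category.assoc,
    Iso.inv_hom_id_assoc, ι_projF] at h
  rw [Finset.sum_eq_single j] at h
  · simp at h
    have h2 := congr($(h).app ⊤ (1 : Γ(Spec (CommRingCat.of K), ⊤)))
    rw [hμ, mul_one] at h2
    exact (congr($((Spec (CommRingCat.of K)).presheaf.map_id (op ⊤)) (c j))).symm.trans h2
  · intro i _ hij
    rw [if_neg (Ne.symm hij)]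
    simp
  · simp

include hdim in
/-- **Base change for `f_* Ω` is onto at points, when `R¹f_* O` is free.** -/
theorem epi_bc0_omega {k : Type u} [Field k] {Z : Scheme.{u}} {pr : Z ⟶ C}
    {z : Z ⟶ Spec (CommRingCat.of k)} {sb : Spec (CommRingCat.of k) ⟶ S} (H : IsPullback pr z f sb)
    (hg : letI : Z.Over (Spec (CommRingCat.of k)) := ⟨z⟩; Curv2.genus k Z ≤ g) (D : FormData f g) :
    Epi (CohBC.bc0 f sb z pr H.w (Omega.sheaf f)) := by
  haveI : IsProper z := MorphismProperty.of_isPullback H inferInstance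
  haveI : Smooth z := MorphismProperty.of_isPullback H inferInstance
  haveI : GeometricallyConnected z := MorphismProperty.of_isPullback H inferInstance
  have hdimZ := dim_of_square f hdim H
  letI : Z.Over (Spec (CommRingCat.of k)) := ⟨z⟩
  haveI : IsProper (Z ↘ Spec (CommRingCat.of k)) := ‹IsProper z›
  haveI : Smooth (Z ↘ Spec (CommRingCat.of k)) := ‹Smooth z›
  haveI : GeometricallyConnected (Z ↘ Spec (CommRingCat.of k)) := ‹GeometricallyConnected z›
  let M := pb pr (Omega.sheaf f)
  letI := GenusZeroLib.kmod k (X := Z) M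
  let m : Fin g → Γ(M, ⊤) := fun i =>
    puSecLE pr (Omega.sheaf f) (le_top : (⊤ : Z.Opens) ≤ pr ⁻¹ᵁ ⊤) (MeroLib.secOn (D.τ i) ⊤)
  have hli : LinearIndependent k m := by
    rw [Fintype.linearIndependent_iff]
    intro c hc i
    let K := AlgebraicClosure k
    let ext : Spec (CommRingCat.of K) ⟶ Spec (CommRingCat.of k) :=
      Spec.map (CommRingCat.ofHom (algebraMap k K))
    let q := pullback.fst z ext
    have HK : IsPullback (q ≫ pr) (pullback.snd z ext) f (ext ≫ sb) :=
      (IsPullback.of_hasPullback z ext).paste_horiz H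
    have hK := forms_independent (pr := q ≫ pr) hdim D HK
      (fun i => ext.appTop ((Scheme.ΓSpecIso (CommRingCat.of k)).inv (c i))) ?_ i
    · have e := congrArg (Scheme.ΓSpecIso (CommRingCat.of K)).hom hK
      rw [map_zero] at e
      refine (algebraMap k K).injective (Eq.trans ?_ (e.trans (map_zero _).symm))
      have e2 := congr($(Scheme.ΓSpecIso_naturality (CommRingCat.ofHom (algebraMap k K)))
        ((Scheme.ΓSpecIso (CommRingCat.of k)).inv (c i)))
      simp only [CommRingCat.comp_apply] at e2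
      refine Eq.trans ?_ e2.symm
      exact congrArg (algebraMap k K) (congr($((Scheme.ΓSpecIso (CommRingCat.of k)).inv_hom_id) (c i))).symm
    · have h := congrArg (fun t => ((Scheme.Modules.pullbackComp q pr).hom.app (Omega.sheaf f)).app ⊤
        (puSecLE q M (le_top : (⊤ : (pullback z ext).Opens) ≤ q ⁻¹ᵁ ⊤) t)) hc
      simp only [map_sum, map_zero] at h
      refine Eq.trans (Finset.sum_congr rfl fun i _ => ?_) h
      show _ = ((Scheme.Modules.pullbackComp q pr).hom.app (Omega.sheaf f)).app ⊤
        (puSecLE q M le_top (GenusZeroLib.ρ k (X := Z) (c i) • m i))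
      rw [KFlatLib.puSecLE_smul, QCohLib.app_smul]
      refine congr_arg₂ (· • ·) ?_ (CohCmpLib.pullbackComp_puSecLE q pr (Omega.sheaf f) _ le_top le_top).symm
      rw [appLE_top]
      exact ((congr($(Scheme.Hom.comp_appTop (pullback.snd z ext) ext) _)).symm.trans
        ((congr($(congrArg Scheme.Hom.appTop (pullback.condition (f := z) (g := ext)))
        ((Scheme.ΓSpecIso (CommRingCat.of k)).inv (c i)))).symm.trans (congr($(Scheme.Hom.comp_appTop q z) _))))
  haveI : Coh.IsQCoh M := TwistLib.isQCoh_of_isInvertible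
    (AmpleDevLib.isInvertible_pb pr (CurveDualLib.omega_invertible_family f hdim))
  obtain ⟨eΩ⟩ := CurveDualLib.nonempty_omega_pullback f sb pr z H
  haveI := CurvLib.finite_HH (k := k) (X := Z)
    (CurvLib.isCoh_of_isInvertible (AmpleDevLib.isInvertible_pb pr (CurveDualLib.omega_invertible_family f hdim))) 0
  haveI : Module.Finite k Γ(M, ⊤) := Module.Finite.equiv (GenusZeroLib.e0k k (X := Z) M)
  have hrank : Module.finrank k Γ(M, ⊤) ≤ g := by
    rw [← (GenusZeroLib.e0k k (X := Z) M).finrank_eq, (CurvLib.hIso (k := k) (X := Z) eΩ 0).finrank_eq]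
    exact (CurveDualLib.h0_omega k Z hdimZ).trans_le hg
  have hspan : Submodule.span k (Set.range m) = ⊤ := by
    refine Submodule.eq_top_of_finrank_eq (le_antisymm (Submodule.finrank_le _) ?_)
    rw [finrank_span_eq_card hli, Fintype.card_fin]
    exact hrank
  haveI : Coh.IsQCoh ((Scheme.Modules.pushforward z).obj M) := QCohLib.isQCoh_pushforward z M
  let bc := CohBC.bc0 f sb z pr H.w (Omega.sheaf f)
  refine QCohLib.epi_of_surjective_on_affines _ fun O t y hy => ?_
  obtain rfl : O = ⊤ := top_le_iff.1 fun y' _ => by rwa [Subsingleton.elim (α := PrimeSpectrum k) y' y]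
  refine ⟨⊤, le_rfl, hy, ?_⟩
  have hall : ∀ v : Γ(M, ⊤), ∃ p, bc.app ⊤ p = v := fun v => by
    have hv : v ∈ Submodule.span k (Set.range m) := by rw [hspan]; trivial
    induction hv using Submodule.span_induction with
    | mem v hv =>
      obtain ⟨i, rfl⟩ := hv
      exact ⟨_, CohCmpLib.bc0_puSec H.w (Omega.sheaf f) (U := ⊤) (MeroLib.secOn (D.τ i) ⊤)⟩
    | zero => exact ⟨0, map_zero _⟩
    | add v w _ _ hv hw =>
      obtain ⟨p, rfl⟩ := hv
      obtain ⟨p', rfl⟩ := hw
      exact ⟨p + p', map_add _ _ _⟩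
    | smul r v _ hv =>
      obtain ⟨p, rfl⟩ := hv
      refine ⟨(Scheme.ΓSpecIso (CommRingCat.of k)).inv r • p, ?_⟩
      exact QCohLib.app_smul bc ⊤ _ p
  exact hall _

end RelDualLib

end
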