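import Groth.Agent.RelDualLib.MV
import Groth.Agent.SecDivLib.Point
import Groth.Agent.GenusZeroLib.Rational

/-!
# The kernels of `H¹(O) → H¹(O(x))` span, over an algebraically closed field
-/

set_option autoImplicit false
set_option linter.style.haveILetI false
set_option linter.unusedSectionVars false
universe u

open CategoryTheory CategoryTheory.Limits AlgebraicGeometry TopologicalSpace Opposite
open AmpleLib (GenAt GenOn res shT)

noncomputable section

namespace RelDualLib

variable {k : Type u} [Field k] {C : Scheme.{u}} [C.Over (Spec (CommRingCat.of k))]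
  [IsProper (C ↘ Spec (CommRingCat.of k))] [Smooth (C ↘ Spec (CommRingCat.of k))]
  [GeometricallyConnected (C ↘ Spec (CommRingCat.of k))] (hdim : topologicalKrullDim C = 1)

include hdim in
/-- A section cutting out a rational point: degree one, vanishing only there. -/
theorem point_bundle_facts (x : Spec (CommRingCat.of k) ⟶ C) (hx : x ≫ (C ↘ Spec (CommRingCat.of k)) = 𝟙 _)
    {L : C.Modules} (hL : PicF.IsInvertible L) (σ : Coh.structureModule C ⟶ L)
    (hσ : PicF2.zeroScheme L σ = x.ker) :
    Curv2.deg k C L 1 = 1 ∧ ∀ y : C, y ≠ x (IsLocalRing.closedPoint k) →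
        GenAt L (MeroLib.secOn σ ⊤) (show y ∈ (⊤ : C.Opens) from trivial) := by
  haveI := FibVALib.geometricallyIntegral_of_geometricallyConnected (C ↘ Spec (CommRingCat.of k))
  haveI : IsIntegral C := GeometricallyIntegral.isIntegral_of_subsingleton (C ↘ Spec (CommRingCat.of k))
  have hP : IsClosed ({x (IsLocalRing.closedPoint k)} : Set C) := GenusZeroLib.isClosed_rational x hx _
  haveI : IsDiscreteValuationRing (C.presheaf.stalk (x (IsLocalRing.closedPoint k))) :=
    HurwitzLib.dvr_stalk_closed (k := k) hdim hP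
  obtain ⟨I, ⟨eI⟩, hI, hId⟩ := GenusZeroLib.exists_idealMod_iso (k := k) hP hdim
  rw [GenusZeroLib.finrank_residueField_rational x hx] at hId
  have hker := SecDivLib.ker_rational x hx
  have eJ : I ≅ ClSub.idealMod x.ker := eI ≪≫ eqToIso (by rw [hker])
  have hne : σ ≠ 0 := by
    intro h0
    have hbot : PicF2.zeroScheme L σ = ⊥ := by
      refine SecDivLib.ext_affine_cover fun y => ?_
      obtain ⟨U₀, e, hyU, he⟩ := TwistLib.exists_genOn hL y
      obtain ⟨U, hU, hyU', hUU⟩ := exists_isAffineOpen_mem_and_subset (U := U₀) (x := y) hyU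
      refine ⟨⟨U, hU⟩, hyU', ?_⟩
      rw [MeroLib.zeroScheme_ideal_of_genOn hL σ (W := ⟨U, hU⟩) (he.res (hUU : U ≤ U₀)) (c := 0)
        (by rw [zero_smul, h0]; rfl), Scheme.IdealSheafData.ideal_bot]
      simp
    rw [hσ, hker] at hbot
    have hsupp := congrArg (fun J : C.IdealSheafData => (J.support : Set C)) hbot
    simp only [Scheme.IdealSheafData.coe_support_vanishingIdeal, Scheme.IdealSheafData.support_bot] at hsupp
    haveI : Subsingleton C := ⟨fun a b => by
      have ha : a ∈ ({x (IsLocalRing.closedPoint k)} : Set C) := hsupp.ge trivial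
      have hb : b ∈ ({x (IsLocalRing.closedPoint k)} : Set C) := hsupp.ge trivial
      exact ha.trans hb.symm⟩
    have : topologicalKrullDim C ≤ 0 := AlgSpLib.topologicalKrullDim_le_zero_of_subsingleton
    rw [hdim] at this
    exact absurd this (by decide)
  haveI : Mono σ := CurvLib.mono_of_ne_zero CurvLib.isInvertible_structureModule hL hne
  have hd := GenusZeroLib.deg_tensor k hdim hI hL
  obtain ⟨et⟩ := AmpleFinGenLib.idealMod_tensor_iso hL σ
  rw [hσ] at et
  rw [CurvLib.deg_congr (k := k) (HilbPolyLib.congrLeft eJ L ≪≫ et) 1, hId] at hd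
  have h00 : Curv2.deg k C (Coh.structureModule C) 1 = 0 := by simp [Curv2.deg]
  refine ⟨by omega, fun y hy => ?_⟩
  have h1 : y ∉ (PicF2.zeroScheme L σ).support := by
    rw [hσ, hker]
    intro hm
    have hm' : y ∈ ((Scheme.IdealSheafData.vanishingIdeal
      ⟨{x (IsLocalRing.closedPoint k)}, GenusZeroLib.isClosed_rational x hx _⟩).support : Set C) := hm
    rw [Scheme.IdealSheafData.coe_support_vanishingIdeal] at hm'
    exact hy hm'
  have h2 := (AmpleFinGenLib.notMem_support_zeroScheme hL σ y).1 h1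
  rw [AmpleThLib.genLocus_hom hL σ] at h2
  exact h2

include hdim in
/-- Outside finitely many closed points there is a rational point. -/
theorem exists_rational_avoiding [IsAlgClosed k] (T : Set C) (hT : T.Finite) (hc : ∀ y ∈ T, IsClosed ({y} : Set C)) :
    ∃ x : Spec (CommRingCat.of k) ⟶ C, x ≫ (C ↘ Spec (CommRingCat.of k)) = 𝟙 _ ∧
      x (IsLocalRing.closedPoint k) ∉ T := by
  haveI := FibVALib.geometricallyIntegral_of_geometricallyConnected (C ↘ Spec (CommRingCat.of k))
  haveI : IsIntegral C := GeometricallyIntegral.isIntegral_of_subsingleton (C ↘ Spec (CommRingCat.of k))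
  have hTc : IsClosed T := by
    rw [← Set.biUnion_of_singleton T]
    exact hT.isClosed_biUnion hc
  let U : C.Opens := ⟨Tᶜ, hTc.isOpen_compl⟩
  have hne : Nonempty U.toScheme := by
    refine ⟨⟨genericPoint C, ?_⟩⟩
    intro hη
    have h1 : closure ({genericPoint C} : Set C) = Set.univ := genericPoint_spec C
    rw [(hc _ hη).closure_eq] at h1
    haveI : Subsingleton C := ⟨fun a b => by
      have ha : a ∈ ({genericPoint C} : Set C) := h1.ge trivial
      have hb : b ∈ ({genericPoint C} : Set C) := h1.ge trivial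
      exact ha.trans hb.symm⟩
    have : topologicalKrullDim C ≤ 0 := AlgSpLib.topologicalKrullDim_le_zero_of_subsingleton
    rw [hdim] at this
    exact absurd this (by decide)
  obtain ⟨w, hw⟩ := GenusZeroLib.exists_rational_point_of_smooth (k := k) (U.ι ≫ (C ↘ Spec (CommRingCat.of k)))
  exact ⟨w ≫ U.ι, by rw [Category.assoc, hw], (w (IsLocalRing.closedPoint k)).2⟩

include hdim in
/-- A subspace of `H¹(O)` containing every `ker (H¹(O) → H¹(O(x)))` is everything. -/
theorem span_kernels [IsAlgClosed k] (K : Submodule k (Coh.HH C (Coh.structureModule C) 1))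
    (hK : ∀ (x : Spec (CommRingCat.of k) ⟶ C), x ≫ (C ↘ Spec (CommRingCat.of k)) = 𝟙 _ →
      ∃ (L : C.Modules) (σ : Coh.structureModule C ⟶ L), PicF.IsInvertible L ∧ PicF2.zeroScheme L σ = x.ker ∧
        LinearMap.ker (CurvLib.hMap (k := k) σ 1) ≤ K) :
    K = ⊤ := by
  haveI := FibVALib.geometricallyIntegral_of_geometricallyConnected (C ↘ Spec (CommRingCat.of k))
  haveI : IsIntegral C := GeometricallyIntegral.isIntegral_of_subsingleton (C ↘ Spec (CommRingCat.of k))
  have step : ∀ n : ℕ, ∃ (T : Set C) (L : C.Modules) (τ : Coh.structureModule C ⟶ L), T.Finite ∧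
      (∀ y ∈ T, IsClosed ({y} : Set C)) ∧ PicF.IsInvertible L ∧ Curv2.deg k C L 1 = n ∧
      (∀ y, y ∉ T → GenAt L (MeroLib.secOn τ ⊤) (show y ∈ (⊤ : C.Opens) from trivial)) ∧
      LinearMap.ker (CurvLib.hMap (k := k) τ 1) ≤ K := by
    intro n
    induction n with
    | zero =>
      refine ⟨∅, Coh.structureModule C, 𝟙 _, Set.finite_empty, fun y hy => hy.elim,
        CurvLib.isInvertible_structureModule, by simp [Curv2.deg],
        fun y _ => (AmpleLib.one_genOn (⊤ : C.Opens)).genAt _, fun v hv => ?_⟩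
      rw [LinearMap.mem_ker, hMap_id_hom] at hv
      rw [hv]
      exact zero_mem K
    | succ n ih =>
      obtain ⟨T, L, τ, hT, hTc, hL, hd, hgen, hker⟩ := ih
      obtain ⟨x, hx, hxT⟩ := exists_rational_avoiding (k := k) hdim T hT hTc
      obtain ⟨L', σ', hL', hσ', hK'⟩ := hK x hx
      obtain ⟨hd', hgen'⟩ := point_bundle_facts (k := k) hdim x hx hL' σ' hσ'
      obtain ⟨ψ, hψ⟩ := exists_mulRight L σ'
      obtain ⟨ψ', hψ'⟩ := exists_mulLeft L' τ
      refine ⟨insert (x (IsLocalRing.closedPoint k)) T, CohB1.tensorMod L L', τ ≫ ψ, hT.insert _, ?_,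
        HilbPolyLib.isInvertible_tensor hL hL', ?_, fun y hy => ?_, ?_⟩
      · rintro y (rfl | hy)
        · exact GenusZeroLib.isClosed_rational x hx _
        · exact hTc y hy
      · rw [GenusZeroLib.deg_tensor k hdim hL hL', hd, hd']
        push_cast
        ring
      · rw [Set.mem_insert_iff, not_or] at hy
        have e : MeroLib.secOn (τ ≫ ψ) ⊤ = shT (MeroLib.secOn τ ⊤) (MeroLib.secOn σ' ⊤) := hψ ⊤ _
        rw [e]
        exact (hgen y hy.2).tensor (hgen' y hy.1)
      · refine (ker_comp_le τ σ' ψ ψ' hψ hψ' hL hL' fun y => ?_).trans (sup_le hker hK')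
        by_cases hy : y ∈ T
        · exact Or.inr (hgen' y fun e => hxT (e ▸ hy))
        · exact Or.inl (hgen y hy)
  obtain ⟨T, L, τ, -, -, hL, hd, -, hker⟩ := step (2 * Curv2.genus k C)
  haveI := FibVALib.h1_vanish k C hdim hL (by rw [hd]; push_cast; omega)
  exact eq_top_iff.mpr fun v _ => hker (LinearMap.mem_ker.mpr (Subsingleton.elim _ _))

end RelDualLib

end
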