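import Groth.Agent.RelDualLib.Kills
import Groth.Agent.CohCmpLib.PullOnComp
import Groth.Agent.CubeLib.Glue

/-!
# The forms attached to functionals on `R¹f_* O`
-/

set_option autoImplicit false
set_option linter.style.haveILetI false
set_option linter.unusedSectionVars false
set_option maxRecDepth 8000
set_option backward.isDefEq.respectTransparency false
universe u

open CategoryTheory CategoryTheory.Limits AlgebraicGeometry TopologicalSpace Opposite
open AmpleLib (GenAt GenOn res shT)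
open KFlatLib (pb puSec puSecLE)

noncomputable section

namespace RelDualLib

/-- `O` pulls back to `O` compatibly with composition. -/
theorem unit_comp {X Y Z : Scheme.{u}} (a : X ⟶ Y) (b : Y ⟶ Z) (c : X ⟶ Z) (h : a ≫ b = c) :
    (Scheme.Modules.pullbackComp a b).hom.app (Coh.structureModule Z) ≫
        (Scheme.Modules.pullbackCongr h).hom.app (Coh.structureModule Z) ≫ (KFlatLib.pullUnitIso c).hom =
      (Scheme.Modules.pullback a).map (KFlatLib.pullUnitIso b).hom ≫ (KFlatLib.pullUnitIso a).hom := by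
  subst h
  have hcg : (Scheme.Modules.pullbackCongr (rfl : a ≫ b = a ≫ b)).hom.app (Coh.structureModule Z) = 𝟙 _ := by
    simp [Scheme.Modules.pullbackCongr]
  rw [hcg, Category.id_comp]
  refine CohCmpLib.hom_ext_puSec₂ _ _ fun V s => ?_
  show (KFlatLib.pullUnitIso (a ≫ b)).hom.app (a ⁻¹ᵁ (b ⁻¹ᵁ V))
      (((Scheme.Modules.pullbackComp a b).hom.app (Coh.structureModule Z)).app (a ⁻¹ᵁ (b ⁻¹ᵁ V))
        (puSec a (puSec b s))) =
    (KFlatLib.pullUnitIso a).hom.app (a ⁻¹ᵁ (b ⁻¹ᵁ V))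
      (((Scheme.Modules.pullback a).map (KFlatLib.pullUnitIso b).hom).app (a ⁻¹ᵁ (b ⁻¹ᵁ V)) (puSec a (puSec b s)))
  rw [CohCmpLib.pullbackComp_puSec a b _ s]
  refine (CohCmpLib.pullUnitIso_puSec (a ≫ b) s).trans ?_
  refine Eq.trans ?_ (congrArg ((KFlatLib.pullUnitIso a).hom.app (a ⁻¹ᵁ (b ⁻¹ᵁ V)))
    ((KFlatLib.puSec_natural a (KFlatLib.pullUnitIso b).hom (puSec b s)).trans
      (congrArg (puSec a) (CohCmpLib.pullUnitIso_puSec b s)))).symm
  refine Eq.trans ?_ (CohCmpLib.pullUnitIso_puSec a ((ClSub.unitToPush b).app V s)).symm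
  exact congr($(Scheme.Hom.comp_app a b V) s)

/-- Pulling a function through `pullUnitIso`. -/
theorem pullUnit_puSecLE {X Y : Scheme.{u}} (g : X ⟶ Y) {U : Y.Opens} {V : X.Opens} (h : V ≤ g ⁻¹ᵁ U)
    (r : Γ(Y, U)) :
    (KFlatLib.pullUnitIso g).hom.app V (puSecLE g (Coh.structureModule Y) h r) = (g.appLE U V h).hom r := by
  rw [KFlatLib.puSecLE_apply]
  refine (QCohLib.app_map (KFlatLib.pullUnitIso g).hom (homOfLE h) _).trans ?_
  rw [CohCmpLib.pullUnitIso_puSec]
  rfl

/-- `puSecLE` is natural. -/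
theorem puSecLE_nat {X Y : Scheme.{u}} (g : X ⟶ Y) {M N : Y.Modules} (φ : M ⟶ N) {U : Y.Opens} {V : X.Opens}
    (h : V ≤ g ⁻¹ᵁ U) (m : Γ(M, U)) :
    ((Scheme.Modules.pullback g).map φ).app V (puSecLE g M h m) = puSecLE g N h (φ.app U m) :=
  CohCmpLib.puSecLE_natural g φ h m

/-- Multiplication by a function on `O`. -/
theorem exists_mul {X : Scheme.{u}} (c : Γ(X, ⊤)) :
    ∃ μ : Coh.structureModule X ⟶ Coh.structureModule X, ∀ V (r : Γ(X, V)),
      μ.app V r = X.presheaf.map (homOfLE (le_top : V ≤ ⊤)).op c * r :=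
  exists_hom (M := Coh.structureModule X) (N := Coh.structureModule X) (fun V r => show Γ(X, V) from
      X.presheaf.map (homOfLE (le_top : V ≤ ⊤)).op c * (show Γ(X, V) from r))
    (fun V m m' => mul_add (R := Γ(X, V)) _ _ _) (fun V r m => mul_left_comm (G := Γ(X, V)) _ _ _)
    (fun V W h m => by
      show X.presheaf.map (homOfLE h).op (X.presheaf.map (homOfLE le_top).op c * (show Γ(X, W) from m)) = _
      rw [map_mul, ← CommRingCat.comp_apply, ← Functor.map_comp]
      rfl)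

theorem app_sum {X : Scheme.{u}} {M N : X.Modules} {ι : Type*} (s : Finset ι) (φ : ι → (M ⟶ N)) (V : X.Opens)
    (m : Γ(M, V)) : (∑ i ∈ s, φ i).app V m = ∑ i ∈ s, (φ i).app V m := by
  classical
  induction s using Finset.induction_on with
  | empty => simp only [Finset.sum_empty]; rfl
  | insert a s ha ih => rw [Finset.sum_insert ha, Finset.sum_insert ha, ← ih]; rfl

/-- A morphism out of a rank one module over a point is zero if it kills a generator. -/
theorem eq_zero_of_gen {X : Scheme.{u}} [Subsingleton X] {M N : X.Modules} {g : Γ(M, ⊤)} (hg : GenOn M g)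
    (φ : M ⟶ N) (h : φ.app ⊤ g = 0) : φ = 0 := by
  refine Scheme.Modules.hom_ext _ _ fun V => ConcreteCategory.hom_ext _ _ fun t => ?_
  rcases eq_or_ne V ⊤ with rfl | hV
  · obtain ⟨r, rfl⟩ := (hg ⊤ le_rfl).2 t
    simp only [AmpleLib.res_refl]
    rw [QCohLib.app_smul, h, smul_zero]
    rfl
  · have hVe : V = ⊥ := by
      refine eq_bot_iff.mpr fun x hx => absurd (top_le_iff.1 fun x' _ => ?_) hV
      rwa [Subsingleton.elim x' x]
    subst hVe
    exact GrModLib6.eq_zero_of_locally _ fun x hx => hx.elim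

/-- The form of a functional on the normal bundle. -/
theorem exists_form {C : Scheme.{u}} {N Ω : C.Modules} (e : CohB1.tensorMod N Ω ≅ Coh.structureModule C)
    (α : N ⟶ Coh.structureModule C) :
    ∃ τ : Coh.structureModule C ⟶ Ω, ∀ (W : C.Opens) (n : Γ(N, W)) (ω : Γ(Ω, W)) (u : Γ(C, W)),
      e.inv.app W (show Γ(Coh.structureModule C, W) from (1 : Γ(C, W))) = u • shT n ω →
        MeroLib.secOn τ W = (u * (show Γ(C, W) from α.app W n)) • ω := by
  obtain ⟨φ, hφ⟩ := GrTildeLib.exists_tens_hom (M := N) (N := Ω) (P := Ω)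
    (fun V n ω => (show Γ(C, V) from α.app V n) • ω)
    (fun V n n' ω => by
      show (show Γ(C, V) from α.app V (n + n')) • ω = _
      rw [map_add]; exact add_smul _ _ _)
    (fun V n ω ω' => smul_add _ _ _)
    (fun V r n ω => by
      show (show Γ(C, V) from α.app V (r • n)) • ω = r • (show Γ(C, V) from α.app V n) • ω
      rw [QCohLib.app_smul, smul_smul]; rfl)
    (fun V r n ω => by
      show (show Γ(C, V) from α.app V n) • r • ω = r • (show Γ(C, V) from α.app V n) • ω
      rw [smul_smul, smul_smul, mul_comm])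
    (fun V W h n ω => by
      refine (AmpleLib.res_smul Ω h _ ω).trans ?_
      exact congrArg (fun z : Γ(C, V) => z • res Ω h ω) (QCohLib.app_map α (homOfLE h) n).symm)
  refine ⟨e.inv ≫ φ, fun W n ω u hu => ?_⟩
  show φ.app W (e.inv.app W (show Γ(Coh.structureModule C, W) from (1 : Γ(C, W)))) = _
  rw [hu, QCohLib.app_smul, hφ, smul_smul]

section Point

variable {C S T : Scheme.{u}} (f : C ⟶ S) (x : T ⟶ C) (sb : T ⟶ S) (hx : x ≫ f = sb)

/-- The functional read after pullback to a point. -/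
theorem functional_at_point {N : C.Modules} {E : S.Modules} (δ : N ⟶ pb f E) (a : E ⟶ Coh.structureModule S)
    {W : C.Opens} (h : (⊤ : T.Opens) ≤ x ⁻¹ᵁ W) (n : Γ(N, W)) :
    ((Scheme.Modules.pullback x).map δ ≫ (Scheme.Modules.pullbackComp x f).hom.app E ≫
        (Scheme.Modules.pullbackCongr hx).hom.app E ≫ (Scheme.Modules.pullback sb).map a ≫
          (KFlatLib.pullUnitIso sb).hom).app ⊤ (puSecLE x N h n) =
      (x.appLE W ⊤ h).hom (show Γ(C, W) from
        (δ ≫ (Scheme.Modules.pullback f).map a ≫ (KFlatLib.pullUnitIso f).hom).app W n) := by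
  have e : (Scheme.Modules.pullbackComp x f).hom.app E ≫ (Scheme.Modules.pullbackCongr hx).hom.app E ≫
      (Scheme.Modules.pullback sb).map a ≫ (KFlatLib.pullUnitIso sb).hom =
      (Scheme.Modules.pullback x).map ((Scheme.Modules.pullback f).map a ≫ (KFlatLib.pullUnitIso f).hom) ≫
        (KFlatLib.pullUnitIso x).hom := by
    rw [Functor.map_comp, Category.assoc, ← unit_comp x f sb hx]
    erw [← (Scheme.Modules.pullbackCongr hx).hom.naturality_assoc a,
      ← (Scheme.Modules.pullbackComp x f).hom.naturality_assoc a]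
    rfl
  rw [e, ← Functor.map_comp_assoc]
  show (KFlatLib.pullUnitIso x).hom.app ⊤ _ = _
  erw [puSecLE_nat]
  exact pullUnit_puSecLE x h _

end Point

section Combination

variable {C S : Scheme.{u}} (f : C ⟶ S) {N Ω : C.Modules} (e : CohB1.tensorMod N Ω ≅ Coh.structureModule C)
  (hN : PicF.IsInvertible N) (hΩ : PicF.IsInvertible Ω) {E : S.Modules} (δ : N ⟶ pb f E)

include hN hΩ e in
/-- A combination of forms vanishing at a point gives a functional killing the connecting map there. -/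
theorem combination_kills {T : Scheme.{u}} [Subsingleton T] [Nonempty T] (x : T ⟶ C) (sb : T ⟶ S) (hx : x ≫ f = sb)
    {m : ℕ} (a : Fin m → (E ⟶ Coh.structureModule S)) (τ : Fin m → (Coh.structureModule C ⟶ Ω))
    (hτ : ∀ i, ∀ (W : C.Opens) (n : Γ(N, W)) (ω : Γ(Ω, W)) (u : Γ(C, W)),
      e.inv.app W (show Γ(Coh.structureModule C, W) from (1 : Γ(C, W))) = u • shT n ω →
        MeroLib.secOn (τ i) W = (u * (show Γ(C, W) from
          (δ ≫ (Scheme.Modules.pullback f).map (a i) ≫ (KFlatLib.pullUnitIso f).hom).app W n)) • ω)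
    (c : Fin m → Γ(T, ⊤))
    (hc : ∑ i, c i • puSecLE x Ω (le_top : (⊤ : T.Opens) ≤ x ⁻¹ᵁ ⊤) (MeroLib.secOn (τ i) ⊤) = 0)
    (μ : Fin m → (Coh.structureModule T ⟶ Coh.structureModule T))
    (hμ : ∀ i, ∀ V (r : Γ(T, V)), (μ i).app V r = T.presheaf.map (homOfLE (le_top : V ≤ ⊤)).op (c i) * r) :
    (Scheme.Modules.pullback x).map δ ≫ (Scheme.Modules.pullbackComp x f).hom.app E ≫
      (Scheme.Modules.pullbackCongr hx).hom.app E ≫
        (∑ i, (Scheme.Modules.pullback sb).map (a i) ≫ (KFlatLib.pullUnitIso sb).hom ≫ μ i) = 0 := by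
  obtain ⟨t⟩ := ‹Nonempty T›
  obtain ⟨U, n₀, hxU, hn₀⟩ := TwistLib.exists_genOn hN (x t)
  obtain ⟨U', ω₀, hxU', hω₀⟩ := TwistLib.exists_genOn hΩ (x t)
  let W := U ⊓ U'
  have hn := hn₀.res (inf_le_left : W ≤ U)
  have hω := hω₀.res (inf_le_right : W ≤ U')
  let n := res N (inf_le_left : W ≤ U) n₀
  let ω := res Ω (inf_le_right : W ≤ U') ω₀
  have h : (⊤ : T.Opens) ≤ x ⁻¹ᵁ W := fun t' _ => by
    rw [Subsingleton.elim t' t]; exact ⟨hxU, hxU'⟩
  obtain ⟨u, hu⟩ := ((AmpleThLib.shT_genOn hn hω) W le_rfl).2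
    (e.inv.app W (show Γ(Coh.structureModule C, W) from (1 : Γ(C, W))))
  simp only [AmpleLib.res_refl] at hu
  have huU : IsUnit u := by
    refine CubeLib.isUnit_of_genOn (AmpleThLib.shT_genOn hn hω) ?_
    rw [hu]
    exact MeroLib.genOn_iso e.inv (AmpleLib.one_genOn W)
  let γ : Fin m → Γ(T, ⊤) := fun i => (x.appLE W ⊤ h).hom (show Γ(C, W) from
    (δ ≫ (Scheme.Modules.pullback f).map (a i) ≫ (KFlatLib.pullUnitIso f).hom).app W n)
  have hω' := CubeLib.genOn_puSecLE x hω h
  have hsum : ∑ i, c i * γ i = 0 := by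
    have h1 : ∀ i, puSecLE x Ω (le_top : (⊤ : T.Opens) ≤ x ⁻¹ᵁ ⊤) (MeroLib.secOn (τ i) ⊤) =
        ((x.appLE W ⊤ h).hom u * γ i) • puSecLE x Ω h ω := fun i => by
      refine (CubeLib.puSecLE_res x Ω (le_top : W ≤ ⊤) h _).symm.trans ?_
      rw [MeroLib.secOn_res, hτ i W n ω u hu.symm, KFlatLib.puSecLE_smul, map_mul]
    simp only [h1, smul_smul, ← Finset.sum_smul] at hc
    have h2 : ∑ i, c i * ((x.appLE W ⊤ h).hom u * γ i) = 0 := (hω' ⊤ le_rfl).1 (by
      simp only [AmpleLib.res_refl, zero_smul]; exact hc)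
    simp only [mul_left_comm (b := (x.appLE W ⊤ h).hom u), ← Finset.mul_sum] at h2
    exact (huU.map (x.appLE W ⊤ h).hom).mul_right_eq_zero.mp h2
  refine eq_zero_of_gen (CubeLib.genOn_puSecLE x hn h) _ ?_
  simp only [Preadditive.comp_sum]
  rw [app_sum]
  refine Eq.trans (Finset.sum_congr rfl fun i _ => ?_) hsum
  refine Eq.trans (b := (μ i).app ⊤ (γ i)) ?_ ?_
  · exact congrArg ((μ i).app ⊤) (functional_at_point f x sb hx δ (a i) h n)
  · rw [hμ]
    refine congrArg (· * γ i) ?_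
    exact congr($(T.presheaf.map_id (op ⊤)) (c i))

end Combination

end RelDualLib

end
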