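import Groth.Agent.RelDualLib.Delta
import Groth.Agent.LerayLowLib.PullId
import Groth.Agent.CohCmpLib.EpsBij

/-!
# A functional on `R¹z_* O` killing every point kernel vanishes
-/

set_option autoImplicit false
set_option linter.style.haveILetI false
set_option linter.unusedSectionVars false
set_option maxRecDepth 8000
universe u

open CategoryTheory CategoryTheory.Limits AlgebraicGeometry TopologicalSpace Opposite
open KFlatLib (pb)
open CohCmpLib (HC hm hp)

noncomputable section

namespace RelDualLib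

/-- Pullback of classes along an isomorphism is surjective. -/
theorem hp_surjective {X Y : Scheme.{u}} (g : X ⟶ Y) [IsIso g] (M : Y.Modules) (p : ℕ) :
    Function.Surjective (hp g M p) := by
  intro y
  let j := inv g
  let N := (Scheme.Modules.pullback g).obj M
  let φ : (Scheme.Modules.pullback j).obj N ≅ M :=
    (Scheme.Modules.pullbackComp j g).app M ≪≫
      (Scheme.Modules.pullbackCongr (IsIso.inv_hom_id g)).app M ≪≫ (Scheme.Modules.pullbackId Y).app M
  -- the composite of the two pullbacks is given by a fixed isomorphism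
  let Φ : N ≅ N :=
    ((Scheme.Modules.pullbackId X).app N).symm ≪≫
      (Scheme.Modules.pullbackCongr (IsIso.hom_inv_id g)).symm.app N ≪≫
        ((Scheme.Modules.pullbackComp g j).app N).symm ≪≫ (Scheme.Modules.pullback g).mapIso φ
  have h : ∀ w : HC X N p, hp g M p (hm φ.hom p (hp j N p w)) = hm Φ.hom p w := by
    intro w
    have h1 : hp g M p (hm φ.hom p (hp j N p w)) =
        hm ((Scheme.Modules.pullback g).map φ.hom) p (hp g _ p (hp j N p w)) :=
      (CohCmpLib.hp_natural g φ.hom p (hp j N p w)).symm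
    have h2 : hm ((Scheme.Modules.pullbackId X).hom.app N) p
        (hm ((Scheme.Modules.pullbackCongr (IsIso.hom_inv_id g)).hom.app N) p
          (hm ((Scheme.Modules.pullbackComp g j).hom.app N) p (hp g _ p (hp j N p w)))) = w := by
      rw [CohCmpLib.hp_hp]
      exact (congrArg (hm ((Scheme.Modules.pullbackId X).hom.app N) p)
        (CohCmpLib.hp_congr (IsIso.hom_inv_id g) N p w)).trans (LerayLowLib.hp_id p N w)
    rw [h1]
    conv_rhs => rw [← h2]
    rw [← CohCmpLib.hm_comp, ← CohCmpLib.hm_comp, ← CohCmpLib.hm_comp]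
    congr 1
    simp [Φ]
  refine ⟨hm φ.hom p (hp j N p (hm Φ.inv p y)), ?_⟩
  rw [h, ← CohCmpLib.hm_comp, Iso.inv_hom_id, CohCmpLib.hm_id]

variable {Z T : Scheme.{u}} (z : Z ⟶ T) [HasInjectiveResolutions Z.Modules]

/-- Global classes as global sections of the higher direct image. -/
def theta (F : Z.Modules) (p : ℕ) : Coh.HH Z F p →+ ((Coh.Rpush z p).obj F).presheaf.obj (op ⊤) :=
  ((cmp z).ε ⊤ F p).comp (CohPull.resOpen F (z ⁻¹ᵁ ⊤) p)

theorem theta_natural {F G : Z.Modules} (ψ : F ⟶ G) (p : ℕ) (x : Coh.HH Z F p) :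
    theta z G p (CohPull.mapH ψ p x) = ((Coh.Rpush z p).map ψ).app ⊤ (theta z F p x) := by
  refine Eq.trans ?_ ((cmp z).natural ⊤ ψ p (CohPull.resOpen F (z ⁻¹ᵁ ⊤) p x))
  refine congrArg ((cmp z).ε ⊤ G p) ?_
  let ι := (z ⁻¹ᵁ ⊤).ι
  let I := Scheme.Modules.restrictFunctorIsoPullback ι
  show hm (I.inv.app G) p (hp ι G p (hm ψ p x)) =
    hm ((Scheme.Modules.restrictFunctor ι).map ψ) p (hm (I.inv.app F) p (hp ι F p x))
  rw [← CohCmpLib.hp_natural ι ψ p x, ← CohCmpLib.hm_comp, ← CohCmpLib.hm_comp, I.inv.naturality ψ]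

theorem theta_surjective [IsAffine T] [QuasiCompact z] [QuasiSeparated z] (F : Z.Modules) [Coh.IsQCoh F]
    (p : ℕ) : Function.Surjective (theta z F p) := by
  intro t
  obtain ⟨w, hw⟩ := (CohCmpLib.eps_bijective_affine (cmp z) F (isAffineOpen_top T) p).2 t
  let ι := (z ⁻¹ᵁ ⊤).ι
  haveI : IsIso ι := by
    show IsIso (⊤ : Z.Opens).ι
    rw [← Scheme.topIso_hom]; infer_instance
  let I := (Scheme.Modules.restrictFunctorIsoPullback ι).app F
  obtain ⟨v, hv⟩ := hp_surjective ι F p (hm I.hom p w)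
  refine ⟨v, Eq.trans ?_ hw⟩
  refine congrArg ((cmp z).ε ⊤ F p) ?_
  show hm I.inv p (hp ι F p v) = w
  rw [hv, ← CohCmpLib.hm_comp, Iso.hom_inv_id, CohCmpLib.hm_id]

section Fibre

variable {k : Type u} [Field k] [IsAlgClosed k] {W : Scheme.{u}} (w : W ⟶ Spec (CommRingCat.of k))
  [IsProper w] [Smooth w] [GeometricallyConnected w] (hdim : topologicalKrullDim W = 1)

include hdim in
/-- A morphism out of `R¹w_* O` which kills the kernel of every point vanishes. -/
theorem eq_zero_of_points {U : (Spec (CommRingCat.of k)).Modules}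
    (B : (Coh.Rpush w 1).obj (Coh.structureModule W) ⟶ U)
    (hB : ∀ y : Spec (CommRingCat.of k) ⟶ W, y ≫ w = 𝟙 _ →
      ∃ (L : W.Modules) (σ : Coh.structureModule W ⟶ L) (b' : (Coh.Rpush w 1).obj L ⟶ U),
        PicF.IsInvertible L ∧ PicF2.zeroScheme L σ = y.ker ∧ B = (Coh.Rpush w 1).map σ ≫ b') :
    B = 0 := by
  letI : W.Over (Spec (CommRingCat.of k)) := ⟨w⟩
  haveI : IsProper (W ↘ Spec (CommRingCat.of k)) := ‹IsProper w›
  haveI : Smooth (W ↘ Spec (CommRingCat.of k)) := ‹Smooth w›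
  haveI : GeometricallyConnected (W ↘ Spec (CommRingCat.of k)) := ‹GeometricallyConnected w›
  haveI : Coh.IsQCoh (Coh.structureModule W) := QCohLib.isQCoh_unit
  let P : Coh.HH W (Coh.structureModule W) 1 → Prop := fun v =>
    B.app ⊤ (theta w (Coh.structureModule W) 1 v) = 0
  have h0 : P 0 := by simp only [P, map_zero]
  have hadd : ∀ a b, P a → P b → P (a + b) := fun a b ha hb => by
    simp only [P, map_add] at ha hb ⊢
    rw [ha, hb, add_zero]
  have hP : ∀ y : Spec (CommRingCat.of k) ⟶ W, y ≫ w = 𝟙 _ →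
      ∃ (L : W.Modules) (σ : Coh.structureModule W ⟶ L), PicF.IsInvertible L ∧ PicF2.zeroScheme L σ = y.ker ∧
        ∀ v, CurvLib.hMap (k := k) σ 1 v = 0 → P v := fun y hy => by
    obtain ⟨L, σ, b', hL, hσ, rfl⟩ := hB y hy
    refine ⟨L, σ, hL, hσ, fun v hv => ?_⟩
    show b'.app ⊤ (((Coh.Rpush w 1).map σ).app ⊤ (theta w _ 1 v)) = 0
    rw [← theta_natural w σ 1 v,
      show CohPull.mapH σ 1 v = 0 from (CurvLib.hMap_apply (k := k) σ 1 v).symm.trans hv, map_zero, map_zero]
  choose L σ hL hσ hkill using hP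
  let K : Submodule k (Coh.HH W (Coh.structureModule W) 1) :=
    ⨆ y : {y : Spec (CommRingCat.of k) ⟶ W // y ≫ w = 𝟙 _},
      LinearMap.ker (CurvLib.hMap (k := k) (σ y.1 y.2) 1)
  have hK : K = ⊤ := span_kernels (k := k) hdim K fun y hy =>
    ⟨L y hy, σ y hy, hL y hy, hσ y hy,
      le_iSup (fun y : {y : Spec (CommRingCat.of k) ⟶ W // y ≫ w = 𝟙 _} =>
        LinearMap.ker (CurvLib.hMap (k := k) (σ y.1 y.2) 1)) ⟨y, hy⟩⟩
  have hall : ∀ v, P v := fun v => by
    have hv : v ∈ K := by rw [hK]; trivial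
    exact Submodule.iSup_induction _ (motive := P) hv (fun y a ha => hkill y.1 y.2 a ha) h0 hadd
  refine Scheme.Modules.hom_ext _ _ fun V => ConcreteCategory.hom_ext _ _ fun t => ?_
  rcases eq_or_ne V ⊤ with rfl | hV
  · obtain ⟨v, rfl⟩ := theta_surjective w (Coh.structureModule W) 1 t
    exact hall v
  · have hVe : V = ⊥ := by
      refine eq_bot_iff.mpr fun x hx => absurd (top_le_iff.1 fun x' _ => ?_) hV
      rwa [Subsingleton.elim (α := PrimeSpectrum k) x' x]
    subst hVe
    exact GrModLib6.eq_zero_of_locally _ fun x hx => hx.elim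

end Fibre

end RelDualLib

end
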