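import Groth.Agent.RelDualLib.Sect
import Groth.Agent.CurvLib.RRBasic

/-!
# Classes killed by the product of two sections with disjoint zero loci
-/

set_option autoImplicit false
set_option linter.style.haveILetI false
set_option linter.unusedSectionVars false
set_option backward.isDefEq.respectTransparency false
universe u

open CategoryTheory CategoryTheory.Limits AlgebraicGeometry TopologicalSpace Opposite
open AmpleLib (GenAt GenOn res shT)

noncomputable section

namespace RelDualLib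

variable {X : Scheme.{u}}

/-- A morphism of modules from a compatible family of linear maps. -/
theorem exists_hom {M N : X.Modules} (b : ∀ V : X.Opens, Γ(M, V) → Γ(N, V))
    (hadd : ∀ V m m', b V (m + m') = b V m + b V m')
    (hsmul : ∀ (V : X.Opens) (r : Γ(X, V)) m, b V (r • m) = r • b V m)
    (hres : ∀ (V W : X.Opens) (h : V ≤ W) m, res N h (b W m) = b V (res M h m)) :
    ∃ φ : M ⟶ N, ∀ V m, φ.app V m = b V m :=
  ⟨⟨PresheafOfModules.homMk (M₁ := M.val) (M₂ := N.val)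
    { app := fun V => AddCommGrpCat.ofHom (AddMonoidHom.mk' (b V.unop) (hadd V.unop))
      naturality := fun V W i => AddCommGrpCat.hom_ext (AddMonoidHom.ext fun m =>
        ((hres W.unop V.unop i.unop.le m).symm : _)) }
    (fun V r m => hsmul V.unop r m)⟩, fun _ _ => rfl⟩

/-- Multiplication by a section from the right. -/
theorem exists_mulRight (L : X.Modules) {L' : X.Modules} (σ' : Coh.structureModule X ⟶ L') :
    ∃ ψ : L ⟶ CohB1.tensorMod L L', ∀ V m, ψ.app V m = shT m (MeroLib.secOn σ' V) :=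
  exists_hom (fun V m => shT m (MeroLib.secOn σ' V)) (fun _ _ _ => HopfIneqLib.shT_add_left _ _ _)
    (fun V r m => by
      have h1 := AmpleLib.shT_smul r 1 m (MeroLib.secOn σ' V)
      rwa [one_smul, mul_one] at h1)
    (fun V W h m => by rw [AmpleLib.shT_res, MeroLib.secOn_res])

/-- Multiplication by a section from the left. -/
theorem exists_mulLeft {L : X.Modules} (L' : X.Modules) (σ : Coh.structureModule X ⟶ L) :
    ∃ ψ : L' ⟶ CohB1.tensorMod L L', ∀ V n, ψ.app V n = shT (MeroLib.secOn σ V) n :=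
  exists_hom (fun V n => shT (MeroLib.secOn σ V) n) (fun _ _ _ => HopfIneqLib.shT_add_right _ _ _)
    (fun V r n => CurveBCLib.shT_smul r _ n)
    (fun V W h n => by rw [AmpleLib.shT_res, MeroLib.secOn_res])

theorem genOn_secOn {L : X.Modules} (hL : PicF.IsInvertible L) (σ : Coh.structureModule X ⟶ L)
    {x : X} (h : GenAt L (MeroLib.secOn σ ⊤) (show x ∈ (⊤ : X.Opens) from trivial)) :
    ∃ W : X.Opens, x ∈ W ∧ GenOn L (MeroLib.secOn σ W) := by
  refine ⟨TwistLib.genSet hL (MeroLib.secOn σ ⊤), h, ?_⟩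
  have := TwistLib.genSet_genOn hL (MeroLib.secOn σ ⊤)
  rwa [MeroLib.secOn_res σ le_top] at this

section MV

variable {L L' : X.Modules} (σ : Coh.structureModule X ⟶ L) (σ' : Coh.structureModule X ⟶ L')
  (ψ : L ⟶ CohB1.tensorMod L L') (ψ' : L' ⟶ CohB1.tensorMod L L')
  (hψ : ∀ V m, ψ.app V m = shT m (MeroLib.secOn σ' V)) (hψ' : ∀ V n, ψ'.app V n = shT (MeroLib.secOn σ V) n)

include hψ hψ' in
theorem comp_eq : σ ≫ ψ = σ' ≫ ψ' := by
  refine Scheme.Modules.hom_ext _ _ fun V => ConcreteCategory.hom_ext _ _ fun r => ?_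
  show ψ.app V (σ.app V r) = ψ'.app V (σ'.app V r)
  rw [AmpleFinGenLib.app_eq_smul_secOn σ V r, AmpleFinGenLib.app_eq_smul_secOn σ' V r, hψ, hψ']
  rw [CurveBCLib.shT_smul]
  have h1 := AmpleLib.shT_smul (show Γ(X, V) from r) 1 (MeroLib.secOn σ V) (MeroLib.secOn σ' V)
  rwa [one_smul, mul_one] at h1

/-- The map into the sum. -/
abbrev mvF : Coh.structureModule X ⟶ L ⊞ L' := biprod.lift σ σ'

/-- The difference map. -/
abbrev mvG : (L ⊞ L' : X.Modules) ⟶ CohB1.tensorMod L L' := biprod.desc ψ (-ψ')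

include hψ hψ' in
theorem mv_zero : mvF σ σ' ≫ mvG ψ ψ' = 0 := by
  simp [comp_eq σ σ' ψ ψ' hψ hψ']

theorem app_fst (V : X.Opens) (r : Γ(Coh.structureModule X, V)) :
    (biprod.fst : (L ⊞ L' : X.Modules) ⟶ L).app V ((mvF σ σ').app V r) = σ.app V r :=
  congr(Scheme.Modules.Hom.app $(biprod.lift_fst σ σ') V r)

theorem app_snd (V : X.Opens) (r : Γ(Coh.structureModule X, V)) :
    (biprod.snd : (L ⊞ L' : X.Modules) ⟶ L').app V ((mvF σ σ').app V r) = σ'.app V r :=
  congr(Scheme.Modules.Hom.app $(biprod.lift_snd σ σ') V r)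

omit ψ ψ' in
theorem app_decomp (V : X.Opens) (t : Γ(L ⊞ L', V)) :
    (biprod.inl : L ⟶ L ⊞ L').app V ((biprod.fst : (L ⊞ L' : X.Modules) ⟶ L).app V t) +
      (biprod.inr : L' ⟶ L ⊞ L').app V ((biprod.snd : (L ⊞ L' : X.Modules) ⟶ L').app V t) = t :=
  congr(Scheme.Modules.Hom.app $(biprod.total (X := L) (Y := L')) V t)

theorem mvG_app (V : X.Opens) (t : Γ(L ⊞ L', V)) :
    (mvG ψ ψ').app V t = ψ.app V ((biprod.fst : (L ⊞ L' : X.Modules) ⟶ L).app V t) -
      ψ'.app V ((biprod.snd : (L ⊞ L' : X.Modules) ⟶ L').app V t) := by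
  have h : mvG ψ ψ' = biprod.fst ≫ ψ + (-(biprod.snd ≫ ψ')) := by
    rw [mvG, biprod.desc_eq, Preadditive.comp_neg]
  rw [h, sub_eq_add_neg]
  rfl

variable (hL : PicF.IsInvertible L) (hL' : PicF.IsInvertible L')
  (hcov : ∀ x : X, GenAt L (MeroLib.secOn σ ⊤) (show x ∈ (⊤ : X.Opens) from trivial) ∨
    GenAt L' (MeroLib.secOn σ' ⊤) (show x ∈ (⊤ : X.Opens) from trivial))

include hψ hψ' hL hL' hcov in
theorem mv_shortExact : (ShortComplex.mk _ _ (mv_zero σ σ' ψ ψ' hψ hψ')).ShortExact where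
  mono_f := by
    refine GrModLib6.mono_of_app_injective _ fun V => (injective_iff_map_eq_zero _).2 fun r hr => ?_
    refine GrModLib6.eq_zero_of_locally r fun x hx => ?_
    have h1 : σ.app V r = 0 := by rw [← app_fst σ σ', hr, map_zero]
    have h2 : σ'.app V r = 0 := by rw [← app_snd σ σ', hr, map_zero]
    rcases hcov x with h | h
    · obtain ⟨W₀, hx₀, hg⟩ := genOn_secOn hL σ h
      refine ⟨V ⊓ W₀, inf_le_left, ⟨hx, hx₀⟩, (hg (V ⊓ W₀) inf_le_right).1 ?_⟩
      dsimp only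
      rw [MeroLib.secOn_res, zero_smul, ← AmpleFinGenLib.app_eq_smul_secOn]
      refine (QCohLib.app_map σ (homOfLE inf_le_left) r).trans ?_
      rw [h1, map_zero]
    · obtain ⟨W₀, hx₀, hg⟩ := genOn_secOn hL' σ' h
      refine ⟨V ⊓ W₀, inf_le_left, ⟨hx, hx₀⟩, (hg (V ⊓ W₀) inf_le_right).1 ?_⟩
      dsimp only
      rw [MeroLib.secOn_res, zero_smul, ← AmpleFinGenLib.app_eq_smul_secOn]
      refine (QCohLib.app_map σ' (homOfLE inf_le_left) r).trans ?_
      rw [h2, map_zero]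
  exact := GrModLib6.exact_of_locally_lift _ _ _ fun V t ht x hx => by
    let fs : (L ⊞ L' : X.Modules) ⟶ L := biprod.fst
    let sn : (L ⊞ L' : X.Modules) ⟶ L' := biprod.snd
    have key : ∀ W : X.Opens, ∀ h : W ≤ V, ψ.app W (fs.app W (res (L ⊞ L') h t)) =
        ψ'.app W (sn.app W (res (L ⊞ L') h t)) := fun W h => by
      rw [← sub_eq_zero, ← mvG_app]
      refine (QCohLib.app_map (mvG ψ ψ') (homOfLE h) t).trans ?_
      rw [ht, map_zero]
    have done : ∀ (W : X.Opens) (h : W ≤ V) (r : Γ(X, W)), σ.app W r = fs.app W (res (L ⊞ L') h t) →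
        σ'.app W r = sn.app W (res (L ⊞ L') h t) → (mvF σ σ').app W r = res (L ⊞ L') h t := by
      intro W h r e1 e2
      rw [← app_decomp W ((mvF σ σ').app W r), app_fst, app_snd, e1, e2]
      exact app_decomp W _
    rcases hcov x with h | h
    · obtain ⟨W₀, hx₀, hg⟩ := genOn_secOn hL σ h
      obtain ⟨U', g', hxU', hg'⟩ := TwistLib.exists_genOn hL' x
      obtain ⟨W, hW, hxW, hWV⟩ := exists_isAffineOpen_mem_and_subset (U := V ⊓ (W₀ ⊓ U')) (x := x)
        ⟨hx, hx₀, hxU'⟩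
      have hV : W ≤ V := fun y hy => (hWV hy).1
      have hgW : GenOn L (MeroLib.secOn σ W) := by
        rw [← MeroLib.secOn_res σ (fun y hy => (hWV hy).2.1 : W ≤ W₀)]; exact hg.res _
      have hgW' := hg'.res (fun y hy => (hWV hy).2.2 : W ≤ U')
      obtain ⟨r, hr⟩ := (hgW W le_rfl).2 (fs.app W (res (L ⊞ L') hV t))
      simp only [AmpleLib.res_refl] at hr
      have e1 : σ.app W r = fs.app W (res (L ⊞ L') hV t) :=
        (AmpleFinGenLib.app_eq_smul_secOn σ W r).trans hr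
      refine ⟨W, hV, hxW, r, done W hV r e1 ?_⟩
      obtain ⟨a, ha⟩ := (hgW' W le_rfl).2 (σ'.app W r)
      obtain ⟨b, hb⟩ := (hgW' W le_rfl).2 (sn.app W (res (L ⊞ L') hV t))
      simp only [AmpleLib.res_refl] at ha hb
      have hk := key W hV
      rw [← e1, hψ, hψ', ← hb, AmpleFinGenLib.app_eq_smul_secOn σ W r] at hk
      have h1 := AmpleLib.shT_smul r 1 (MeroLib.secOn σ W) (MeroLib.secOn σ' W)
      rw [one_smul, mul_one] at h1
      rw [h1, ← CurveBCLib.shT_smul, ← AmpleFinGenLib.app_eq_smul_secOn σ' W r, ← ha, CurveBCLib.shT_smul,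
        CurveBCLib.shT_smul] at hk
      have hab := (AmpleThLib.shT_genOn hgW hgW' W le_rfl).1 (a₁ := a) (a₂ := b) (by
        simp only [AmpleLib.res_refl]; exact hk)
      rw [← ha, ← hb, hab]
    · obtain ⟨W₀, hx₀, hg⟩ := genOn_secOn hL' σ' h
      obtain ⟨U', g', hxU', hg'⟩ := TwistLib.exists_genOn hL x
      obtain ⟨W, hW, hxW, hWV⟩ := exists_isAffineOpen_mem_and_subset (U := V ⊓ (W₀ ⊓ U')) (x := x)
        ⟨hx, hx₀, hxU'⟩
      have hV : W ≤ V := fun y hy => (hWV hy).1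
      have hgW : GenOn L' (MeroLib.secOn σ' W) := by
        rw [← MeroLib.secOn_res σ' (fun y hy => (hWV hy).2.1 : W ≤ W₀)]; exact hg.res _
      have hgW' := hg'.res (fun y hy => (hWV hy).2.2 : W ≤ U')
      obtain ⟨r, hr⟩ := (hgW W le_rfl).2 (sn.app W (res (L ⊞ L') hV t))
      simp only [AmpleLib.res_refl] at hr
      have e2 : σ'.app W r = sn.app W (res (L ⊞ L') hV t) :=
        (AmpleFinGenLib.app_eq_smul_secOn σ' W r).trans hr
      refine ⟨W, hV, hxW, r, done W hV r ?_ e2⟩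
      obtain ⟨a, ha⟩ := (hgW' W le_rfl).2 (σ.app W r)
      obtain ⟨b, hb⟩ := (hgW' W le_rfl).2 (fs.app W (res (L ⊞ L') hV t))
      simp only [AmpleLib.res_refl] at ha hb
      have hk := (key W hV).symm
      rw [← e2, hψ, hψ', AmpleFinGenLib.app_eq_smul_secOn σ' W r, CurveBCLib.shT_smul] at hk
      have h1 := AmpleLib.shT_smul r 1 (MeroLib.secOn σ W) (MeroLib.secOn σ' W)
      rw [one_smul, mul_one] at h1
      rw [← h1, ← AmpleFinGenLib.app_eq_smul_secOn σ W r, ← ha, ← hb] at hk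
      have h2 : ∀ c : Γ(X, W), shT (c • res L (fun y hy => (hWV hy).2.2 : W ≤ U') g') (MeroLib.secOn σ' W) =
          c • shT (res L (fun y hy => (hWV hy).2.2 : W ≤ U') g') (MeroLib.secOn σ' W) := fun c => by
        have h3 := AmpleLib.shT_smul c 1 (res L (fun y hy => (hWV hy).2.2 : W ≤ U') g') (MeroLib.secOn σ' W)
        rwa [one_smul, mul_one] at h3
      rw [h2, h2] at hk
      have hab := (AmpleThLib.shT_genOn hgW' hgW W le_rfl).1 (a₁ := a) (a₂ := b) (by
        simp only [AmpleLib.res_refl]; exact hk)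
      rw [← ha, ← hb, hab]
  epi_g := by
    refine QCohLib.epi_of_surjective_on_affines _ fun V t x hx => ?_
    rcases hcov x with h | h
    · obtain ⟨W₀, hx₀, hg⟩ := genOn_secOn hL σ h
      obtain ⟨U', g', hxU', hg'⟩ := TwistLib.exists_genOn hL' x
      obtain ⟨W, hW, hxW, hWV⟩ := exists_isAffineOpen_mem_and_subset (U := V ⊓ (W₀ ⊓ U')) (x := x)
        ⟨hx, hx₀, hxU'⟩
      have hgW : GenOn L (MeroLib.secOn σ W) := by
        rw [← MeroLib.secOn_res σ (fun y hy => (hWV hy).2.1 : W ≤ W₀)]; exact hg.res _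
      have hgW' := hg'.res (fun y hy => (hWV hy).2.2 : W ≤ U')
      obtain ⟨r, hr⟩ := (AmpleThLib.shT_genOn hgW hgW' W le_rfl).2
        (res (CohB1.tensorMod L L') (fun y hy => (hWV hy).1 : W ≤ V) t)
      simp only [AmpleLib.res_refl] at hr
      refine ⟨W, fun y hy => (hWV hy).1, hxW,
        -((biprod.inr : L' ⟶ L ⊞ L').app W (r • res L' (fun y hy => (hWV hy).2.2 : W ≤ U') g')), ?_⟩
      refine Eq.trans ?_ hr
      have e : (biprod.inr : L' ⟶ L ⊞ L') ≫ mvG ψ ψ' = -ψ' := biprod.inr_desc _ _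
      rw [map_neg]
      refine (congrArg Neg.neg (congr(Scheme.Modules.Hom.app $e W
        (r • res L' (fun y hy => (hWV hy).2.2 : W ≤ U') g')))).trans ?_
      show -(-(ψ'.app W _)) = _
      rw [neg_neg, hψ', CurveBCLib.shT_smul]
    · obtain ⟨W₀, hx₀, hg⟩ := genOn_secOn hL' σ' h
      obtain ⟨U', g', hxU', hg'⟩ := TwistLib.exists_genOn hL x
      obtain ⟨W, hW, hxW, hWV⟩ := exists_isAffineOpen_mem_and_subset (U := V ⊓ (W₀ ⊓ U')) (x := x)
        ⟨hx, hx₀, hxU'⟩
      have hgW : GenOn L' (MeroLib.secOn σ' W) := by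
        rw [← MeroLib.secOn_res σ' (fun y hy => (hWV hy).2.1 : W ≤ W₀)]; exact hg.res _
      have hgW' := hg'.res (fun y hy => (hWV hy).2.2 : W ≤ U')
      obtain ⟨r, hr⟩ := (AmpleThLib.shT_genOn hgW' hgW W le_rfl).2
        (res (CohB1.tensorMod L L') (fun y hy => (hWV hy).1 : W ≤ V) t)
      simp only [AmpleLib.res_refl] at hr
      refine ⟨W, fun y hy => (hWV hy).1, hxW,
        (biprod.inl : L ⟶ L ⊞ L').app W (r • res L (fun y hy => (hWV hy).2.2 : W ≤ U') g'), ?_⟩
      refine Eq.trans ?_ hr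
      have e : (biprod.inl : L ⟶ L ⊞ L') ≫ mvG ψ ψ' = ψ := biprod.inl_desc _ _
      refine (congr(Scheme.Modules.Hom.app $e W
        (r • res L (fun y hy => (hWV hy).2.2 : W ≤ U') g'))).trans ?_
      rw [hψ]
      have h3 := AmpleLib.shT_smul r 1 (res L (fun y hy => (hWV hy).2.2 : W ≤ U') g') (MeroLib.secOn σ' W)
      rwa [one_smul, mul_one] at h3

variable {k : Type u} [Field k] [X.Over (Spec (CommRingCat.of k))]

omit ψ ψ' in
theorem hMap_zero_hom {M N : X.Modules} (p : ℕ) (x : Coh.HH X M p) :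
    CurvLib.hMap (k := k) (0 : M ⟶ N) p x = 0 := by
  rw [CurvLib.hMap_apply, Functor.map_zero]
  exact (congrArg (fun e => Abelian.Ext.comp x e (add_zero p)) (Abelian.Ext.mk₀_zero _ _)).trans
    (Abelian.Ext.comp_zero ..)

omit ψ ψ' in
theorem hMap_id_hom {M : X.Modules} (p : ℕ) (x : Coh.HH X M p) : CurvLib.hMap (k := k) (𝟙 M) p x = x := by
  rw [CurvLib.hMap_apply, CategoryTheory.Functor.map_id, Sheaf.H.map_id_apply]

include hψ hψ' hL hL' hcov in
/-- The kernel of the product is the sum of the two kernels. -/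
theorem ker_comp_le :
    LinearMap.ker (CurvLib.hMap (k := k) (σ ≫ ψ) 1) ≤
      LinearMap.ker (CurvLib.hMap (k := k) σ 1) ⊔ LinearMap.ker (CurvLib.hMap (k := k) σ' 1) := by
  intro v hv
  rw [LinearMap.mem_ker, CurvLib.hMap_comp] at hv
  have hS := mv_shortExact σ σ' ψ ψ' hψ hψ' hL hL' hcov
  let a := CurvLib.hMap (k := k) σ 1 v
  have hw : CurvLib.hMap (k := k) (biprod.inl : L ⟶ L ⊞ L') 1 a ∈
      LinearMap.ker (CurvLib.hMap (k := k) (mvG ψ ψ') 1) := by
    rw [LinearMap.mem_ker, ← CurvLib.hMap_comp]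
    rw [show (biprod.inl : L ⟶ L ⊞ L') ≫ mvG ψ ψ' = ψ from biprod.inl_desc _ _]
    exact hv
  rw [← CurvLib.exact₂ (k := k) hS 1] at hw
  obtain ⟨w, hw⟩ := hw
  have h1 : CurvLib.hMap (k := k) σ 1 w = a := by
    have := congrArg (CurvLib.hMap (k := k) (biprod.fst : (L ⊞ L' : X.Modules) ⟶ L) 1) hw
    rwa [← CurvLib.hMap_comp, ← CurvLib.hMap_comp, biprod.inl_fst, hMap_id_hom,
      show mvF σ σ' ≫ biprod.fst = σ from biprod.lift_fst _ _] at this
  have h2 : CurvLib.hMap (k := k) σ' 1 w = 0 := by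
    have := congrArg (CurvLib.hMap (k := k) (biprod.snd : (L ⊞ L' : X.Modules) ⟶ L') 1) hw
    rwa [← CurvLib.hMap_comp, ← CurvLib.hMap_comp, biprod.inl_snd, hMap_zero_hom,
      show mvF σ σ' ≫ biprod.snd = σ' from biprod.lift_snd _ _] at this
  have e : v = (v - w) + w := (sub_add_cancel v w).symm
  rw [e]
  refine Submodule.add_mem_sup ?_ ?_
  · rw [LinearMap.mem_ker, map_sub, h1, sub_self]
  · exact LinearMap.mem_ker.mpr h2

end MV

end RelDualLib

end
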