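import Groth.Agent.RelDualLib.Epi
import Groth.Agent.CurveDualLib.PushOmega
import Groth.Agent.CohCmpLib.TrivFibre
import Groth.Agent.SeesawLib.OpenBC

/-!
# Direct images of the differentials of a family of curves
-/

set_option autoImplicit false
set_option linter.style.haveILetI false
set_option linter.unusedSectionVars false
set_option maxRecDepth 8000
universe u

open CategoryTheory CategoryTheory.Limits AlgebraicGeometry TopologicalSpace Opposite
open KFlatLib (pb)

noncomputable section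

namespace RelDualLib

/-- Surjective comparisons survive pasting with an open restriction. -/
theorem epi_bc0_paste {Z X' X T S' S : Scheme.{u}} {j : Z ⟶ X'} {z : Z ⟶ T} {f' : X' ⟶ S'} {t : T ⟶ S'}
    {g' : X' ⟶ X} {f : X ⟶ S} {ι : S' ⟶ S} [IsOpenImmersion ι] [QuasiCompact f] [QuasiSeparated f]
    (h₁ : IsPullback j z f' t) (h₂ : IsPullback g' f' f ι)
    (hw : (j ≫ g') ≫ f = z ≫ t ≫ ι) (F : X.Modules) [Coh.IsQCoh F]
    (h : Epi (CohBC.bc0 f' t z j h₁.w (pb g' F))) : Epi (CohBC.bc0 f (t ≫ ι) z (j ≫ g') hw F) := by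
  haveI : QuasiCompact f' := MorphismProperty.of_isPullback h₂ ‹_›
  haveI : QuasiSeparated f' := MorphismProperty.of_isPullback h₂ ‹_›
  haveI := SeesawLib.isIso_bc0_open h₂ F
  have hB2 : Epi ((bcm f h₂.w).bc 0 F) := CohCmpLib.epi_bc_of_bc0 _ F inferInstance
  have hB1 : Epi ((bcm f' h₁.w).bc 0 (pb g' F)) := CohCmpLib.epi_bc_of_bc0 _ _ h
  have hc := Groth.Agent.S16948.result j g' z f' f t ι h₁ h₂ hw F 0 (cmp f) (cmp f') (cmp z)
    (bcm f h₂.w) (bcm f' h₁.w) (bcm f hw)
  have hE : Epi ((Scheme.Modules.pullbackComp t ι).hom.app ((Coh.Rpush f 0).obj F) ≫ (bcm f hw).bc 0 F) := by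
    rw [hc]
    haveI : Epi ((Scheme.Modules.pullback t).map ((bcm f h₂.w).bc 0 F)) :=
      (Scheme.Modules.pullback t).map_epi _
    haveI : Epi ((bcm f' h₁.w).bc 0 ((Scheme.Modules.pullback g').obj F)) := hB1
    haveI : Epi ((bcm f' h₁.w).bc 0 ((Scheme.Modules.pullback g').obj F) ≫
        (Coh.Rpush z 0).map ((Scheme.Modules.pullbackComp j g').hom.app F)) := epi_comp _ _
    exact epi_comp _ _
  exact CohCmpLib.epi_bc0_of_bc _ F ((epi_comp_iff_of_epi _ _).1 hE)

variable {C S : Scheme.{u}} (f : C ⟶ S) [IsProper f] [Smooth f] [GeometricallyConnected f]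
  (hdim : ∀ s : S, topologicalKrullDim ↥(f.fiber s) = 1)

attribute [local instance] CurveDualLib.fibreOver

theorem genus_fibre (s : S) :
    CohIII.fiberRank f (Coh.structureModule C) 1 s = Curv2.genus (S.residueField s) (f.fiber s) :=
  (CurvLib.hIso (k := S.residueField s) (KFlatLib.pullUnitIso (f.fiberι s)) 1).finrank_eq

include hdim in
/-- `R¹f_* O` is free of the fibre genus near every point. -/
theorem exists_free_R1O (s : S) : ∃ O : S.Opens, s ∈ O ∧
    Nonempty (((Coh.Rpush f 1).obj (Coh.structureModule C)).restrict O.ι ≅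
      FlatMod.freeMod (↑O) (CohIII.fiberRank f (Coh.structureModule C) 1 s)) := by
  haveI := FibVALib.geometricallyIntegral_of_geometricallyConnected f
  obtain ⟨hQ, hfp, hfl⟩ := CohCmpLib.rank_one_hyps f
    ((CohCmpLib.invertible_iff_rank_one _).1 (CurvLib.isInvertible_structureModule (X := C)))
  have h2 := CurveDualLib.subsingleton_fiberH_ge_two f hdim (Coh.structureModule C) s 2 le_rfl
  have h0 := CohCmpLib.epi_bc0_unit (f := f) s (CohCmpLib.finrank_global_of_geometricallyIntegral (f := f) s)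
  obtain ⟨W, K, hW, hsW⟩ := CohCmpLib.exists_chart_at hfp hfl s
  obtain ⟨q, rfl⟩ := CohCmpLib.exists_fromSpec hW hsW
  have hb := CohCmpLib.epi_bc_of_bc0 (bcm f (f.fiber_fac (hW.fromSpec q))) _ h0
  obtain ⟨V₁, h₁, -, hV₁, hs₁, a⟩ := K.exists_fl_of_epi (cmp f) hW le_rfl 0 q _ _ hb
  obtain ⟨V, hle, hVV₁, hV, hsV, b, -, -, -⟩ := K.exists_vanishing_nhd (cmp f) hV₁ h₁ 2 hs₁ h2
  exact K.exists_free_nhd (cmp f) hV hle 1 (K.flAt_mono a hVV₁) b hsV

include hdim in
/-- **`H⁰` of the differentials commutes with base change at every point.** -/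
theorem epi_bc0_omega_fibre (s : S) :
    Epi (CohBC.bc0 f (S.fromSpecResidueField s) (f.fiberToSpecResidueField s) (f.fiberι s) (f.fiber_fac s)
      (Omega.sheaf f)) := by
  haveI : Coh.IsQCoh (Omega.sheaf f) :=
    TwistLib.isQCoh_of_isInvertible (CurveDualLib.omega_invertible_family f hdim)
  obtain ⟨O, hsO, ⟨e⟩⟩ := exists_free_R1O f hdim s
  let g := CohIII.fiberRank f (Coh.structureModule C) 1 s
  let fO := f ∣_ O
  have H : IsPullback (f ⁻¹ᵁ O).ι fO f O.ι := (isPullback_morphismRestrict f O).flip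
  haveI : IsProper fO := MorphismProperty.of_isPullback H inferInstance
  haveI : Smooth fO := MorphismProperty.of_isPullback H inferInstance
  haveI : GeometricallyConnected fO := MorphismProperty.of_isPullback H inferInstance
  have hdimO : ∀ x : O.toScheme, topologicalKrullDim ↥(fO.fiber x) = 1 := fun x =>
    (FibDimLib.topologicalKrullDim_fiber_baseChange H x).trans (hdim _)
  -- `R¹` of the restriction is free
  haveI := isIso_bc1 hdim H (CurvLib.isInvertible_structureModule (X := C))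
  have hE : Nonempty ((Coh.Rpush fO 1).obj (Coh.structureModule _) ≅ FlatMod.freeMod (↑O) g) :=
    ⟨(Coh.Rpush fO 1).mapIso (KFlatLib.pullUnitIso (f ⁻¹ᵁ O).ι).symm ≪≫
      (asIso (bc1 f H.w (Coh.structureModule C))).symm ≪≫
      ((Scheme.Modules.restrictFunctorIsoPullback O.ι).app _).symm ≪≫ e⟩
  obtain ⟨D⟩ := nonempty_formData fO hdimO hE
  -- the point of `O`
  let p := S.fromSpecResidueField s
  have hp : Set.range p ⊆ Set.range O.ι := by
    rw [Scheme.range_fromSpecResidueField, Scheme.Opens.range_ι]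
    exact Set.singleton_subset_iff.mpr hsO
  let sb := IsOpenImmersion.lift O.ι p hp
  have hsb : sb ≫ O.ι = p := IsOpenImmersion.lift_fac _ _ _
  let j : f.fiber s ⟶ (f ⁻¹ᵁ O : Scheme.{u}) := H.lift (f.fiberι s) (f.fiberToSpecResidueField s ≫ sb)
    (by rw [Category.assoc, hsb]; exact f.fiber_fac s)
  have hj : j ≫ (f ⁻¹ᵁ O).ι = f.fiberι s := H.lift_fst _ _ _
  have h₁ : IsPullback j (f.fiberToSpecResidueField s) fO sb := by
    refine IsPullback.of_right ?_ (H.lift_snd _ _ _) H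
    rw [hj, hsb]
    exact IsPullback.of_hasPullback f p
  have hgen : Curv2.genus (S.residueField s) (f.fiber s) ≤ g := (genus_fibre f s).ge
  have hepi := epi_bc0_omega hdimO h₁ hgen D
  obtain ⟨eΩ⟩ := CurveDualLib.nonempty_omega_pullback f O.ι (f ⁻¹ᵁ O).ι fO H
  have hepi' := CohCmpLib.epi_bc0_of_iso fO h₁.w eΩ.symm hepi
  have hw : (j ≫ (f ⁻¹ᵁ O).ι) ≫ f = f.fiberToSpecResidueField s ≫ sb ≫ O.ι := by
    rw [hj, hsb]; exact f.fiber_fac s
  have key := epi_bc0_paste h₁ H hw (Omega.sheaf f) hepi'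
  have transport : ∀ (a : f.fiber s ⟶ C) (b : Spec (S.residueField s) ⟶ S)
      (w : a ≫ f = f.fiberToSpecResidueField s ≫ b), j ≫ (f ⁻¹ᵁ O).ι = a → sb ≫ O.ι = b →
      Epi (CohBC.bc0 f b (f.fiberToSpecResidueField s) a w (Omega.sheaf f)) := by
    rintro a b w rfl rfl
    exact key
  exact transport _ _ _ hj hsb

include hdim in
/-- `f_* Ω` is locally free of the fibre genus and commutes with every base change. -/
theorem push_omega_free_and_bc :
    (∀ s : S, ∃ O : S.Opens, s ∈ O ∧ Nonempty (((Scheme.Modules.pushforward f).obj (Omega.sheaf f)).restrict O.ι ≅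
      FlatMod.freeMod (↑O) (Curv2.genus (S.residueField s) (f.fiber s)))) ∧
      ∀ {X' S' : Scheme.{u}} {g : S' ⟶ S} {f' : X' ⟶ S'} {g' : X' ⟶ C} (H : IsPullback g' f' f g),
        IsIso (CohBC.bc0 f g f' g' H.w (Omega.sheaf f)) := by
  have hΩ := CurveDualLib.omega_invertible_family f hdim
  obtain ⟨hQ, hfp, hfl⟩ := CohCmpLib.rank_one_hyps f ((CohCmpLib.invertible_iff_rank_one _).1 hΩ)
  refine ⟨fun s => ?_, fun {X' S' g f' g'} H => ?_⟩
  · obtain ⟨_, _, _⟩ := CurveDualLib.fibre_data f s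
    obtain ⟨W, K, V, hle, hV, hsV, a⟩ := CohCmpLib.compatAt_of_epi hfp hfl s (epi_bc0_omega_fibre f hdim s)
    obtain ⟨O, hO, e⟩ := K.exists_free_nhd (cmp f) hV hle 0 (K.flAt_zero hle) a hsV
    obtain ⟨i⟩ := CurveDualLib.nonempty_omega_pullback f (S.fromSpecResidueField s) (f.fiberι s)
      ((f.fiber s) ↘ Spec (CommRingCat.of (S.residueField s))) (IsPullback.of_hasPullback _ _)
    have hr : CohIII.fiberRank f (Omega.sheaf f) 0 s = Curv2.genus (S.residueField s) (f.fiber s) :=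
      (CurvLib.hIso (k := S.residueField s) i 0).finrank_eq.trans
        (CurveDualLib.h0_omega (S.residueField s) (f.fiber s) (hdim s))
    exact ⟨O, hO, hr ▸ CohCmpLib.exists_push_free e⟩
  · let B := bcm f H.w
    haveI : IsIso (B.bc 0 (Omega.sheaf f)) := CohCmpLib.isIso_bc_of_compatAt (cmp f) H (cmp f') B 0 fun z =>
      CohCmpLib.compatAt_of_epi hfp hfl _ (epi_bc0_omega_fibre f hdim (g z))
    exact CohCmpLib.isIso_bc0_of_bc B _

include hdim in
/-- `R¹f_* Ω` is a line bundle. -/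
theorem rank_one_R1_omega : FlatMod.IsFinLocFreeOfRank 1 ((Coh.Rpush f 1).obj (Omega.sheaf f)) := by
  intro s
  have hΩ := CurveDualLib.omega_invertible_family f hdim
  obtain ⟨hQ, hfp, hfl⟩ := CohCmpLib.rank_one_hyps f ((CohCmpLib.invertible_iff_rank_one _).1 hΩ)
  obtain ⟨_, _, _⟩ := CurveDualLib.fibre_data f s
  obtain ⟨i⟩ := CurveDualLib.nonempty_omega_pullback f (S.fromSpecResidueField s) (f.fiberι s)
    ((f.fiber s) ↘ Spec (CommRingCat.of (S.residueField s))) (IsPullback.of_hasPullback _ _)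
  have hr : CohIII.fiberRank f (Omega.sheaf f) 1 s = 1 :=
    (CurvLib.hIso (k := S.residueField s) i 1).finrank_eq.trans
      (CurveDualLib.h1_omega (S.residueField s) (f.fiber s) (hdim s))
  have h2 := CurveDualLib.subsingleton_fiberH_ge_two f hdim (Omega.sheaf f) s 2 le_rfl
  obtain ⟨W, K, V₁, h₁, hV₁, hs₁, a⟩ := CohCmpLib.compatAt_of_epi hfp hfl s (epi_bc0_omega_fibre f hdim s)
  obtain ⟨V, hle, hVV₁, hV, hsV, b, -, -, -⟩ := K.exists_vanishing_nhd (cmp f) hV₁ h₁ 2 hs₁ h2
  obtain ⟨O, hO, e⟩ := K.exists_free_nhd (cmp f) hV hle 1 (K.flAt_mono a hVV₁) b hsV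
  rw [hr] at e
  exact ⟨O, hO, e⟩

include hdim in
/-- No higher direct images beyond degree one. -/
theorem isZero_rpush_ge_two {F : C.Modules} (hF : PicF.IsInvertible F) (i : ℕ) (hi : 2 ≤ i) :
    IsZero ((Coh.Rpush f i).obj F) := by
  obtain ⟨hQ, hfp, hfl⟩ := CohCmpLib.rank_one_hyps f ((CohCmpLib.invertible_iff_rank_one _).1 hF)
  exact CohCmpLib.isZero_rpush_of_fibre hfp hfl i fun s =>
    CurveDualLib.subsingleton_fiberH_ge_two f hdim F s i hi

end RelDualLib

end
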