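import Groth.Agent.RelDualLib.Main
import Groth.Agent.S2768

/-!
# Families of relative dimension one
-/

set_option autoImplicit false
universe u

open CategoryTheory CategoryTheory.Limits AlgebraicGeometry TopologicalSpace

noncomputable section

namespace RelDualLib

theorem hdim_of_relDim {C S : Scheme.{u}} (f : C ⟶ S) [IsProper f] [SmoothOfRelativeDimension 1 f]
    [GeometricallyConnected f] (s : S) : topologicalKrullDim ↥(f.fiber s) = 1 := by
  haveI : Smooth f := SmoothOfRelativeDimension.smooth 1 f
  haveI := FibVALib.geometricallyIntegral_of_geometricallyConnected f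
  haveI := CurveDualLib.irreducible_fibre f s
  obtain ⟨w⟩ : Nonempty ↥(f.fiber s) := inferInstance
  let x := f.fiberι s w
  have hxs : f x = s := by
    have h := Set.mem_range_self (f := f.fiberι s) w
    rwa [f.range_fiberι] at h
  obtain ⟨Z, hZ, hd⟩ := FibDimLib.exists_fibre_component f x
  rw [Groth.Agent.S2768.result 1 f x] at hd
  haveI := CurveDualLib.irreducible_fibre f (f x)
  rw [irreducibleComponents_eq_singleton, Set.mem_singleton_iff] at hZ
  subst hZ
  rw [← hxs]
  exact ((Homeomorph.Set.univ _).isHomeomorph.topologicalKrullDim_eq).symm.trans hd.symm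

end RelDualLib

end
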