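import Groth.Agent.RelDualLib.Main
import Groth.Agent.CohCmpLib.FamilyPic2

/-!
# `R¹f_* Ω ≅ O`
-/

set_option autoImplicit false
set_option linter.style.haveILetI false
set_option linter.unusedSectionVars false
set_option maxRecDepth 8000
universe u

open CategoryTheory CategoryTheory.Limits AlgebraicGeometry TopologicalSpace Opposite
open KFlatLib (pb)

noncomputable section

namespace RelDualLib

variable {C S : Scheme.{u}} (f : C ⟶ S) [IsProper f] [Smooth f] [GeometricallyConnected f]
  (hdim : ∀ s : S, topologicalKrullDim ↥(f.fiber s) = 1)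

include hdim in
/-- The twist of the differentials by the diagonal has no first cohomology on fibres. -/
theorem subsingleton_fiberH_twist {L : (pullback f f).Modules} (hL : PicF.IsInvertible L)
    (σ : Coh.structureModule (pullback f f) ⟶ L) (hσ : PicF2.zeroScheme L σ = (pullback.diagonal f).ker) (c : C) :
    Subsingleton (CohIII.fiberH (pullback.snd f f)
      (CohB1.tensorMod (pb (pullback.fst f f) (Omega.sheaf f)) L) c 1) := by
  let q := pullback.snd f f
  haveI : IsProper q := MorphismProperty.pullback_snd f f inferInstance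
  haveI : Smooth q := MorphismProperty.pullback_snd f f inferInstance
  haveI : GeometricallyConnected q := MorphismProperty.pullback_snd f f inferInstance
  let k : Type u := C.residueField c
  let Z := q.fiber c
  letI : Z.Over (Spec (CommRingCat.of k)) := ⟨q.fiberToSpecResidueField c⟩
  haveI : IsProper (Z ↘ Spec (CommRingCat.of k)) := MorphismProperty.pullback_snd q _ inferInstance
  haveI : Smooth (Z ↘ Spec (CommRingCat.of k)) := MorphismProperty.pullback_snd q _ inferInstance
  haveI : GeometricallyConnected (Z ↘ Spec (CommRingCat.of k)) := MorphismProperty.pullback_snd q _ inferInstance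
  have hd := hdim_snd f hdim c
  haveI := (CurveDualLib.bcData k Z hd).int
  let ι := q.fiberι c
  have hxs := SecDivLib.isPullback_fibrePt q (pullback.diagonal f) (pullback.diagonal_snd f) c
  have hz : PicF2.zeroScheme (pb ι L) (SecDivLib.pbSec ι σ) =
      (SecDivLib.fibrePt q (pullback.diagonal f) (pullback.diagonal_snd f) c).ker := by
    rw [SecDivLib.zeroScheme_pbSec ι hL σ, hσ]
    exact SecDivLib.comap_ker_of_isPullback hxs
  obtain ⟨hd1, -⟩ := point_bundle_facts (k := k) hd
    (SecDivLib.fibrePt q (pullback.diagonal f) (pullback.diagonal_snd f) c)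
    (SecDivLib.fibrePt_toSpec q (pullback.diagonal f) (pullback.diagonal_snd f) c)
    (AmpleDevLib.isInvertible_pb _ hL) (SecDivLib.pbSec ι σ) hz
  have hΩ := CurveDualLib.omega_invertible_family f hdim
  have hsq : IsPullback (ι ≫ pullback.fst f f) (Z ↘ Spec (CommRingCat.of k)) f (C.fromSpecResidueField c ≫ f) :=
    (IsPullback.of_hasPullback q (C.fromSpecResidueField c)).paste_horiz (IsPullback.of_hasPullback f f)
  obtain ⟨eΩ⟩ := CurveDualLib.nonempty_omega_pullback f _ _ _ hsq
  let eP : pb ι (pb (pullback.fst f f) (Omega.sheaf f)) ≅ Omega.sheaf (Z ↘ Spec (CommRingCat.of k)) :=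
    (Scheme.Modules.pullbackComp ι (pullback.fst f f)).app _ ≪≫ eΩ
  have hΩZ := CurveDualLib.omega_invertible_field k Z hd
  haveI := (CurveDualLib.bcData k Z hd).gi
  refine FibVALib.h1_vanish k Z hd (AmpleDevLib.isInvertible_pb _
    (HilbPolyLib.isInvertible_tensor (AmpleDevLib.isInvertible_pb _ hΩ) hL)) ?_
  rw [CurvLib.deg_congr (k := k) (PicPnLib.pullTens ι (pb (pullback.fst f f) (Omega.sheaf f)) L ≪≫
      HilbPolyLib.congrLeft eP _) 1,
    GenusZeroLib.deg_tensor k hd hΩZ (AmpleDevLib.isInvertible_pb _ hL), CurveDualLib.deg_omega k Z hd, hd1]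
  omega

include hdim in
/-- **The trace isomorphism exists.** -/
theorem nonempty_R1_omega_iso : Nonempty ((Coh.Rpush f 1).obj (Omega.sheaf f) ≅ Coh.structureModule S) := by
  let q := pullback.snd f f
  let i := pullback.diagonal f
  let H2 := IsPullback.of_hasPullback f f
  haveI : IsProper q := MorphismProperty.pullback_snd f f inferInstance
  haveI : Smooth q := MorphismProperty.pullback_snd f f inferInstance
  have hΩ := CurveDualLib.omega_invertible_family f hdim
  obtain ⟨L, σ, hL, hm, hσ, hLJ⟩ := exists_diag_bundle f hdim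
  have hi : i ≫ q = 𝟙 C := pullback.diagonal_snd f
  let P := pb (pullback.fst f f) (Omega.sheaf f)
  have hP : PicF.IsInvertible P := AmpleDevLib.isInvertible_pb _ hΩ
  obtain ⟨τ, hch⟩ := exists_twist (i := i) hL hP σ hσ
  let PL := CohB1.tensorMod P L
  have hPL : PicF.IsInvertible PL := HilbPolyLib.isInvertible_tensor hP hL
  let M := (Coh.Rpush f 1).obj (Omega.sheaf f)
  have hM : FlatMod.IsFinLocFreeOfRank 1 M := rank_one_R1_omega f hdim
  let D := Groth.Agent.RDerLib.derivedLES (Scheme.Modules.pushforward q)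
  haveI : PreservesFiniteLimits (Scheme.Modules.pushforward q) := CohCmpLib.preservesFiniteLimits_push
  let N := pb i PL
  -- the restriction to the diagonal is trivial
  obtain ⟨e⟩ := nonempty_normal_tensor_omega f hLJ
  let eN : N ≅ Coh.structureModule C :=
    PicPnLib.pullTens i P L ≪≫ HilbPolyLib.congrLeft
      ((Scheme.Modules.pullbackComp i (pullback.fst f f)).app _ ≪≫
        (Scheme.Modules.pullbackCongr (pullback.diagonal_fst f)).app _ ≪≫
          (Scheme.Modules.pullbackId C).app (Omega.sheaf f)) _ ≪≫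
      KFlatLib.tensSwap (pb i L) (Omega.sheaf f) ≪≫ e
  let c : ((Scheme.Modules.pushforward q).rightDerived 0).obj ((Scheme.Modules.pushforward i).obj N) ≅
      Coh.structureModule C :=
    (Scheme.Modules.pushforward q).rightDerivedZeroIsoSelf.app _ ≪≫ (Scheme.Modules.pushforwardComp i q).app N ≪≫
      (Scheme.Modules.pushforwardCongr hi).app N ≪≫ (Scheme.Modules.pushforwardId C).app N ≪≫ eN
  haveI := isIso_bc1 hdim H2 hΩ
  let β := bc1 f H2.w (Omega.sheaf f)
  let d := D.δ (ShortComplex.mk τ (uni i PL) hch.comp_uni) hch.shortExact 0 1 rfl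
  have hz : IsZero ((Coh.Rpush q 1).obj PL) := by
    obtain ⟨hQ, hfp, hfl⟩ := CohCmpLib.rank_one_hyps q ((CohCmpLib.invertible_iff_rank_one _).1 hPL)
    exact CohCmpLib.isZero_rpush_of_fibre hfp hfl 1 fun c => subsingleton_fiberH_twist f hdim hL σ hσ c
  haveI : Epi d := (D.exact₁ _ hch.shortExact 0 1 rfl).epi_f (hz.eq_of_tgt _ _)
  let φ : Coh.structureModule C ⟶ pb f M := c.inv ≫ d ≫ inv β
  haveI : Epi φ := epi_comp _ _
  haveI : IsIso φ := CohCmpLib.isIso_of_epi_rank_one (CohCmpLib.rank_one_structureModule C)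
    (CohCmpLib.rank_one_pullback f hM) φ
  haveI := FibVALib.geometricallyIntegral_of_geometricallyConnected f
  have h0 := fun y => CohCmpLib.finrank_global_of_geometricallyIntegral (f := f) y
  haveI := (CohCmpLib.unit_of_rank_one (f := f) h0 hM).2
  haveI := (CohCmpLib.unit_of_rank_one (f := f) h0 (CohCmpLib.rank_one_structureModule S)).2
  exact ⟨asIso ((Scheme.Modules.pullbackPushforwardAdjunction f).unit.app M) ≪≫
    (Scheme.Modules.pushforward f).mapIso ((asIso φ).symm ≪≫ (KFlatLib.pullUnitIso f).symm) ≪≫
    (asIso ((Scheme.Modules.pullbackPushforwardAdjunction f).unit.app (Coh.structureModule S))).symm⟩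

end RelDualLib

end
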